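import Groth.Agent.RepOne.Basic
import Groth.Prelude.Def_StGerb
/-!
Gerbes over a stack: composition and base change.
-/

set_option backward.isDefEq.respectTransparency false
set_option backward.isDefEq.respectTransparency.types false
set_option linter.unusedSectionVars false

universe v₅ u₅ v₄ u₄ v₃ u₃ v₂ u₂ v u

open CategoryTheory

namespace Groth.Agent.RepOne

open Groth.Agent.ASt

variable {C : Type u} [Category.{v} C]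
variable {𝒳 : BasedCategory.{v₂, u₂} C} {𝒴 : BasedCategory.{v₃, u₃} C} {𝒵 : BasedCategory.{v₄, u₄} C}
  {𝒲 : BasedCategory.{v₅, u₅} C}

theorem exists_over [h𝒳 : FibCat.IsFibGrpd 𝒳.p] (x : 𝒳.obj) {V : C} (f : V ⟶ 𝒳.p.obj x) :
    ∃ (a : 𝒳.obj) (φ : a ⟶ x) (ha : 𝒳.p.obj a = V), 𝒳.p.map φ = eqToHom ha ≫ f :=
  ⟨pull x rfl f, pullHom x rfl f, pull_base x rfl f, by simp⟩

theorem exists_over_map [h𝒴 : FibCat.IsFibGrpd 𝒴.p] {y : 𝒴.obj} {U V : C} (hy : 𝒴.p.obj y = U) (f : V ⟶ U) :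
    ∃ (a : 𝒴.obj) (φ : a ⟶ y) (ha : 𝒴.p.obj a = V), 𝒴.p.map φ = eqToHom ha ≫ f ≫ eqToHom hy.symm :=
  ⟨pull y hy f, pullHom y hy f, pull_base y hy f, map_pullHom y hy f⟩

variable {J : GrothendieckTopology C}

theorem locSurjObj_comp {F : 𝒳 ⥤ᵇ 𝒴} {G : 𝒴 ⥤ᵇ 𝒵} (hF : Gerb.LocSurjObj J F) (hG : Gerb.LocSurjObj J G) :
    Gerb.LocSurjObj J (BasedFunctor.comp F G) := fun z => by
  obtain ⟨R, hR, hR'⟩ := hG z
  have H : ∀ ⦃V : C⦄ (f : V ⟶ 𝒵.p.obj z), R f → ∃ S ∈ J V, ∀ ⦃W : C⦄ (h : W ⟶ V), S h →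
      ∃ (x : 𝒳.obj) (g : G.obj (F.obj x) ⟶ z), 𝒵.p.IsHomLift (h ≫ f) g := by
    intro V f hf
    obtain ⟨y, g, hg⟩ := hR' f hf
    have hy : 𝒴.p.obj y = V := (G.w_obj y).symm.trans (IsHomLift.domain_eq 𝒵.p f g)
    subst hy
    obtain ⟨S, hS, hS'⟩ := hF y
    refine ⟨S, hS, fun W h hh => ?_⟩
    obtain ⟨x, g', hg'⟩ := hS' h hh
    have : 𝒵.p.IsHomLift h (G.map g') := BasedFunctor.preserves_isHomLift G h g'
    exact ⟨x, G.map g' ≫ g, inferInstance⟩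
  choose S hS hS' using H
  refine ⟨Sieve.bind R (fun V f hf => S f hf), J.bind_covering hR (fun V f hf => hS f hf), fun W g hg => ?_⟩
  obtain ⟨V, h, f, hf, hh, rfl⟩ := hg
  exact hS' f hf h hh

theorem locSurjHom_comp [h𝒳 : FibCat.IsFibGrpd 𝒳.p] [h𝒴 : FibCat.IsFibGrpd 𝒴.p] {F : 𝒳 ⥤ᵇ 𝒴} {G : 𝒴 ⥤ᵇ 𝒵}
    (hF : Gerb.LocSurjHom J F) (hG : Gerb.LocSurjHom J G) :
    Gerb.LocSurjHom J (BasedFunctor.comp F G) := fun x x' b hb => by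
  have hxx' : 𝒳.p.obj x' = 𝒳.p.obj x :=
    ((BasedFunctor.comp F G).w_obj x').symm.trans (IsHomLift.codomain_eq 𝒵.p (𝟙 (𝒳.p.obj x)) b)
  have hb' : 𝒵.p.IsHomLift (𝟙 (𝒴.p.obj (F.obj x))) (show G.obj (F.obj x) ⟶ G.obj (F.obj x') from b) := by
    rw [F.w_obj]; exact hb
  obtain ⟨R, hR, hR'⟩ := hG (F.obj x) (F.obj x') b hb'
  let R₀ : Sieve (𝒳.p.obj x) := R.pullback (eqToHom (F.w_obj x).symm)
  have H : ∀ ⦃V : C⦄ (f : V ⟶ 𝒳.p.obj x), R₀ f → ∃ S ∈ J V, ∀ ⦃W : C⦄ (h : W ⟶ V), S h →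
      ∃ (x₀ : 𝒳.obj) (φ : x₀ ⟶ x) (ψ : x₀ ⟶ x'), 𝒳.p.IsHomLift (h ≫ f) φ ∧ 𝒳.p.IsHomLift (h ≫ f) ψ ∧
        G.map (F.map φ) ≫ b = G.map (F.map ψ) := by
    intro V f hf
    obtain ⟨y₀, φ, ψ, hφ, hψ, e⟩ := hR' _ hf
    have eφ := IsHomLift.fac' 𝒴.p (f ≫ eqToHom (F.w_obj x).symm) φ
    have eψ := IsHomLift.fac' 𝒴.p (f ≫ eqToHom (F.w_obj x).symm) ψ
    have hy₀ : 𝒴.p.obj y₀ = V := IsHomLift.domain_eq 𝒴.p (f ≫ eqToHom (F.w_obj x).symm) φ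
    obtain ⟨a, α, ha, eα⟩ := exists_over x f
    obtain ⟨a', α', ha', eα'⟩ := exists_over_map hxx' f
    subst ha
    let u : F.obj a ⟶ y₀ := facMap φ (F.map α) (eqToHom ((F.w_obj a).trans hy₀.symm))
      (by simp [map_w, eφ, eα])
    let v : y₀ ⟶ F.obj a' := facMap (F.map α') ψ (eqToHom (hy₀.trans (ha'.symm.trans (F.w_obj a').symm)))
      (by simp [map_w, eψ, eα'])
    obtain ⟨S, hS, hS'⟩ := hF a a' (u ≫ v)
      (isHomLift_id_of_map _ (F.w_obj a) (e := (F.w_obj a).trans (ha'.symm.trans (F.w_obj a').symm))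
        (by simp [u, v]))
    refine ⟨S, hS, fun W h hh => ?_⟩
    obtain ⟨x₀, φ', ψ', hφ', hψ', e'⟩ := hS' h hh
    have l1 : 𝒳.p.IsHomLift f α := isHomLift_of_map α rfl rfl (by simp [eα])
    have l2 : 𝒳.p.IsHomLift f α' := isHomLift_of_map α' ha' hxx' (by simp [eα'])
    refine ⟨x₀, φ' ≫ α, ψ' ≫ α', inferInstance, inferInstance, ?_⟩
    have e'' : F.map φ' ≫ u ≫ v = F.map ψ' := e'
    have eu : u ≫ φ = F.map α := facMap_comp _ _ _ _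
    have ev : v ≫ F.map α' = ψ := facMap_comp _ _ _ _
    calc G.map (F.map (φ' ≫ α)) ≫ b = (G.map (F.map φ' ≫ u) ≫ G.map φ) ≫ b := by
          rw [← G.map_comp, Category.assoc, eu, ← F.map_comp]
      _ = G.map ((F.map φ' ≫ u) ≫ ψ) := by
          rw [G.map_comp (F.map φ' ≫ u) ψ, ← e]; exact Category.assoc _ _ _
      _ = G.map (F.map (ψ' ≫ α')) := by
          rw [← ev, F.map_comp, ← e'']; simp only [Category.assoc]
  choose S hS hS' using H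
  refine ⟨Sieve.bind R₀ (fun V f hf => S f hf),
    J.bind_covering (J.pullback_stable _ hR) (fun V f hf => hS f hf), fun W g hg => ?_⟩
  obtain ⟨V, h, f, hf, hh, rfl⟩ := hg
  exact hS' f hf h hh

section BaseChange

variable {𝒳' : BasedCategory.{v₄, u₄} C} {𝒴' : BasedCategory.{v₅, u₅} C}
variable [h𝒳 : FibCat.IsFibGrpd 𝒳.p] [h𝒴 : FibCat.IsFibGrpd 𝒴.p] [h𝒳' : FibCat.IsFibGrpd 𝒳'.p]
  [h𝒴' : FibCat.IsFibGrpd 𝒴'.p]
variable {F : 𝒳 ⥤ᵇ 𝒴} {G : 𝒴' ⥤ᵇ 𝒴} {F' : 𝒳' ⥤ᵇ 𝒴'} {G' : 𝒳' ⥤ᵇ 𝒳}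
variable {e : BasedFunctor.comp F' G ≅ BasedFunctor.comp G' F}

theorem locSurjObj_baseChange (hc : FibCat.IsTwoCartOver F' G' e) (hF : Gerb.LocSurjObj J F) :
    Gerb.LocSurjObj J F' := fun y' => by
  obtain ⟨R, hR, hR'⟩ := hF (G.obj y')
  obtain ⟨-, -, hv⟩ := vert_of_isEquivOver hc
  refine ⟨R.pullback (eqToHom (G.w_obj y').symm), J.pullback_stable _ hR, fun V f hf => ?_⟩
  obtain ⟨x, g, hg⟩ := hR' _ hf
  have eg := IsHomLift.fac' 𝒴.p (f ≫ eqToHom (G.w_obj y').symm) g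
  have hx : 𝒳.p.obj x = V :=
    (F.w_obj x).symm.trans (IsHomLift.domain_eq 𝒴.p (f ≫ eqToHom (G.w_obj y').symm) g)
  obtain ⟨y₀, θ, hy₀, eθ⟩ := exists_over y' f
  have ei : eqToHom ((F.w_obj x).trans (hx.trans (hy₀.symm.trans (G.w_obj y₀).symm))) ≫
      𝒴.p.map (G.map θ) = 𝒴.p.map g := by simp [map_w, eθ, eg]
  let i : F.obj x ⟶ G.obj y₀ := facMap (G.map θ) g _ ei
  have hi0 : 𝒴.p.map i = eqToHom ((F.w_obj x).trans (hx.trans (hy₀.symm.trans (G.w_obj y₀).symm))) :=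
    map_facMap (G.map θ) g _ ei
  have hi : IsIso i := isIso_of_vert i hi0
  let m : (FibCat.fp G F).obj := fpMk y₀ x (hx.trans hy₀.symm) (asIso i).symm
    (map_snd_vert (asIso i) hi0)
  obtain ⟨x'', hx'', j, hj⟩ := hv m
  have hj1 : 𝒴'.p.map j.hom.hom.fst = eqToHom (((FibCat.fpLift F' G' e).w_obj x'').trans hx'') := hj
  refine ⟨x'', j.hom.hom.fst ≫ θ, ?_⟩
  refine isHomLift_of_map _ ((((FibCat.fpLift F' G' e).w_obj x'').trans hx'').trans hy₀) rfl ?_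
  rw [Functor.map_comp, hj1, eθ]
  simp

theorem locSurjHom_baseChange (hc : FibCat.IsTwoCartOver F' G' e) (hF : Gerb.LocSurjHom J F) :
    Gerb.LocSurjHom J F' := fun x x' b hb => by
  obtain ⟨hfull, -, -⟩ := vert_of_isEquivOver hc
  have hxx' : 𝒳'.p.obj x' = 𝒳'.p.obj x :=
    (F'.w_obj x').symm.trans (IsHomLift.codomain_eq 𝒴'.p (𝟙 (𝒳'.p.obj x)) b)
  have eb := map_of_isHomLift_id (p := 𝒴'.p) (R := 𝒳'.p.obj x) b
  let e₀ := (BasedNatTrans.forgetful _ _).mapIso e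
  let c : F.obj (G'.obj x) ⟶ F.obj (G'.obj x') := e₀.inv.app x ≫ G.map b ≫ e₀.hom.app x'
  have hinv : 𝒴.p.map (e₀.inv.app x) = eqToHom _ := map_app _ _ e.inv x
  have hhom : 𝒴.p.map (e₀.hom.app x') = eqToHom _ := map_app _ _ e.hom x'
  obtain ⟨R, hR, hR'⟩ := hF (G'.obj x) (G'.obj x') c
    (isHomLift_id_of_map _ (F.w_obj _)
      (e := (F.w_obj _).trans ((G'.w_obj x).trans (hxx'.symm.trans ((G'.w_obj x').symm.trans (F.w_obj _).symm))))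
      (by simp [c, map_w, eb, hinv, hhom]))
  refine ⟨R.pullback (eqToHom (G'.w_obj x).symm), J.pullback_stable _ hR, fun V f hf => ?_⟩
  obtain ⟨a₀, φ, ψ, hφ, hψ, eq⟩ := hR' _ hf
  have eφ := IsHomLift.fac' 𝒳.p (f ≫ eqToHom (G'.w_obj x).symm) φ
  have eψ := IsHomLift.fac' 𝒳.p (f ≫ eqToHom (G'.w_obj x).symm) ψ
  have ha₀ : 𝒳.p.obj a₀ = V := IsHomLift.domain_eq 𝒳.p (f ≫ eqToHom (G'.w_obj x).symm) φ
  obtain ⟨x₁, π, hx₁, eπ⟩ := exists_over x f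
  let χ : G'.obj x₁ ⟶ a₀ := facMap φ (G'.map π) (eqToHom ((G'.w_obj x₁).trans (hx₁.trans ha₀.symm)))
    (by simp [map_w, eφ, eπ])
  have eχ : χ ≫ φ = G'.map π := facMap_comp _ _ _ _
  let L := FibCat.fpLift F' G' e
  have n1 : G.map (F'.map π) ≫ e₀.hom.app x = e₀.hom.app x₁ ≫ F.map (G'.map π) := e₀.hom.naturality π
  have hcc : e₀.hom.app x ≫ c = G.map b ≫ e₀.hom.app x' := e₀.hom_inv_id_app_assoc x _
  let h : L.obj x₁ ⟶ L.obj x' := fpHomMk (m := L.obj x₁) (n := L.obj x') (F'.map π ≫ b) (χ ≫ ψ) (by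
    show G.map (F'.map π ≫ b) ≫ e₀.hom.app x' = e₀.hom.app x₁ ≫ F.map (χ ≫ ψ)
    rw [G.map_comp, Category.assoc, ← hcc, ← Category.assoc, n1, ← eχ, F.map_comp, F.map_comp, ← eq]
    simp only [Category.assoc])
  let ψ₀ : x₁ ⟶ x' := L.toFunctor.preimage h
  have e₀' : F'.map ψ₀ = F'.map π ≫ b := congrArg (fun k => k.hom.fst) (L.toFunctor.map_preimage h)
  have hb2 := congrArg 𝒴'.p.map e₀'
  rw [map_w, Functor.map_comp, map_w, eπ, eb] at hb2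
  refine ⟨x₁, π, ψ₀, isHomLift_of_map π hx₁ rfl (by simp [eπ]), isHomLift_of_map ψ₀ hx₁ hxx' ?_, e₀'.symm⟩
  rw [← cancel_epi (eqToHom (F'.w_obj x₁)), ← cancel_mono (eqToHom (F'.w_obj x').symm)]
  simp only [Category.assoc] at hb2 ⊢
  rw [hb2]
  simp

end BaseChange

end Groth.Agent.RepOne
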