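import Groth.Agent.ASt.Stack
/-!
Descent for categories fibred in groupoids in terms of cones: gluing data on a sieve, objects glueing
them, and comparison morphisms.
-/

set_option backward.isDefEq.respectTransparency false
set_option backward.isDefEq.respectTransparency.types false
set_option linter.unusedSectionVars false

universe v₄ u₄ v₃ u₃ v₂ u₂ v u

open CategoryTheory

namespace Groth.Agent.RepOne

open Groth.Agent.ASt

variable {C : Type u} [Category.{v} C]
variable {𝒳 : BasedCategory.{v₂, u₂} C} {𝒴 : BasedCategory.{v₃, u₃} C}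

/-- An object over `U` under a datum on a sieve on `U`. -/
structure SCone {U : C} {R : Sieve U} (D : Stk.sieveCat R ⥤ᵇ 𝒳) where
  pt : 𝒳.obj
  base : 𝒳.p.obj pt = U
  ι : ∀ s, D.obj s ⟶ pt
  map_ι : ∀ s, 𝒳.p.map (ι s) = eqToHom (D.w_obj s) ≫ s.obj.hom ≫ eqToHom base.symm
  nat : ∀ {s t} (m : s ⟶ t), D.map m ≫ ι t = ι s

/-- Cones under the same datum are compared by exactly one vertical morphism. -/
def SConeUniq {U : C} (R : Sieve U) (𝒳 : BasedCategory.{v₂, u₂} C) : Prop :=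
  ∀ (D : Stk.sieveCat R ⥤ᵇ 𝒳) (c c' : SCone D),
    ∃! h : c.pt ⟶ c'.pt, 𝒳.p.map h = eqToHom (c.base.trans c'.base.symm) ∧ ∀ s, c.ι s ≫ h = c'.ι s

/-- Every datum has a cone. -/
def SGlue {U : C} (R : Sieve U) (𝒳 : BasedCategory.{v₂, u₂} C) : Prop :=
  ∀ D : Stk.sieveCat R ⥤ᵇ 𝒳, Nonempty (SCone D)

variable {U : C} {R : Sieve U}

/-- The cone under the restriction of a functor on the slice. -/
def coneOf (A : FibCat.overCat U ⥤ᵇ 𝒳) : SCone ((Stk.resSieve R 𝒳).obj A) where
  pt := A.obj (ov (𝟙 U))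
  base := A.w_obj _
  ι s := A.map (toTop s.obj)
  map_ι s := map_w A (toTop s.obj)
  nat {s t} m := by
    change A.map m.hom ≫ A.map (toTop t.obj) = A.map (toTop s.obj)
    rw [← A.toFunctor.map_comp]
    congr 1
    exact Over.OverMorphism.ext (Over.w m.hom)

/-- Transporting a cone along an isomorphism of data. -/
def SCone.ofIso {D D' : Stk.sieveCat R ⥤ᵇ 𝒳} (c : SCone D) (e : D' ⟶ D) : SCone D' where
  pt := c.pt
  base := c.base
  ι s := e.toNatTrans.app s ≫ c.ι s
  map_ι s := by simp [map_app, c.map_ι]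
  nat {s t} m := by
    rw [← Category.assoc]
    refine (congrArg (· ≫ c.ι t) (e.toNatTrans.naturality m)).trans ?_
    exact (Category.assoc _ _ _).trans (congrArg (e.toNatTrans.app s ≫ ·) (c.nat m))

/-- The image of a cone. -/
def SCone.map {D : Stk.sieveCat R ⥤ᵇ 𝒳} (c : SCone D) (F : 𝒳 ⥤ᵇ 𝒴) : SCone (BasedFunctor.comp D F) where
  pt := F.obj c.pt
  base := (F.w_obj c.pt).trans c.base
  ι s := F.map (c.ι s)
  map_ι s := (map_w F _).trans (by simp [c.map_ι])
  nat m := (F.toFunctor.map_comp _ _).symm.trans (congrArg (fun k => F.map k) (c.nat m))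

variable [h𝒳 : FibCat.IsFibGrpd 𝒳.p]

theorem SCone.ext_vert {D : Stk.sieveCat R ⥤ᵇ 𝒳} (c : SCone D) {x : 𝒳.obj} {s} {a b : x ⟶ D.obj s}
    (h : 𝒳.p.map a = 𝒳.p.map b) (h' : a ≫ c.ι s = b ≫ c.ι s) : a = b :=
  hom_ext _ h h'

/-- A cone is the restriction of the functor of its vertex. -/
theorem SCone.exists_iso {D : Stk.sieveCat R ⥤ᵇ 𝒳} (c : SCone D) :
    ∃ e : (Stk.resSieve R 𝒳).obj (objFun c.pt c.base) ≅ D,
      ∀ s, e.hom.toNatTrans.app s ≫ c.ι s = pullHom c.pt c.base s.obj.hom := by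
  let f := fun s : (Stk.sieveCat R).obj => facMap (c.ι s) (pullHom c.pt c.base s.obj.hom)
    (eqToHom ((pull_base c.pt c.base s.obj.hom).trans (D.w_obj s).symm)) (by
      rw [c.map_ι, map_pullHom]
      simp)
  have hf : ∀ s, IsIso (f s) := fun s => isIso_of_vert (f s) (map_facMap _ _ _ _)
  refine ⟨BasedNatIso.mkNatIso (F := (Stk.resSieve R 𝒳).obj (objFun c.pt c.base)) (G := D)
    (NatIso.ofComponents (fun s => @asIso _ _ _ _ (f s) (hf s)) fun {s t} m => ?_)
    fun s => isHomLift_id_of_map (f s) (pull_base c.pt c.base s.obj.hom) (map_facMap _ _ _ _),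
    fun s => facMap_comp (c.ι s) (pullHom c.pt c.base s.obj.hom) (eqToHom ((pull_base c.pt c.base s.obj.hom).trans (D.w_obj s).symm)) (by rw [c.map_ι, map_pullHom]; simp)⟩
  change objMap c.pt c.base m.hom ≫ f t = f s ≫ D.map m
  refine hom_ext (c.ι t) ?_ ?_
  · rw [Functor.map_comp, Functor.map_comp, map_objMap, map_w D m, map_facMap, map_facMap]
    simp
    rfl
  · rw [Category.assoc, Category.assoc, c.nat, facMap_comp, facMap_comp, objMap_comp]

theorem uniq_of_isPrestackFor (hp : Stk.IsPrestackFor R 𝒳) : SConeUniq R 𝒳 := by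
  intro D c c'
  have := hp.1
  have := hp.2
  obtain ⟨e, he⟩ := c.exists_iso
  obtain ⟨e', he'⟩ := c'.exists_iso
  let A := objFun c.pt c.base
  let B := objFun c'.pt c'.base
  let p₁ : A.obj (ov (𝟙 U)) ⟶ c.pt := pullHom c.pt c.base (𝟙 U)
  let p₂ : B.obj (ov (𝟙 U)) ⟶ c'.pt := pullHom c'.pt c'.base (𝟙 U)
  have hp₁ : 𝒳.p.map p₁ = eqToHom ((A.w_obj (ov (𝟙 U))).trans c.base.symm) :=
    (map_pullHom _ _ _).trans (by simp)
  have hp₂ : 𝒳.p.map p₂ = eqToHom ((B.w_obj (ov (𝟙 U))).trans c'.base.symm) :=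
    (map_pullHom _ _ _).trans (by simp)
  have : IsIso p₁ := isIso_of_vert p₁ hp₁
  have : IsIso p₂ := isIso_of_vert p₂ hp₂
  obtain ⟨α, hα⟩ := (Stk.resSieve R 𝒳).map_surjective (e.hom ≫ e'.inv)
  have hA : ∀ s : (Stk.sieveCat R).obj, A.map (toTop s.obj) ≫ p₁ = pullHom c.pt c.base s.obj.hom :=
    fun s => objMap_comp _ _ _
  have hB : ∀ s : (Stk.sieveCat R).obj, B.map (toTop s.obj) ≫ p₂ = pullHom c'.pt c'.base s.obj.hom :=
    fun s => objMap_comp _ _ _
  have hγ : ∀ s : (Stk.sieveCat R).obj, (e.hom ≫ e'.inv).toNatTrans.app s ≫ pullHom c'.pt c'.base s.obj.hom =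
      e.hom.toNatTrans.app s ≫ c'.ι s := fun s => by
    change (e.hom.toNatTrans.app s ≫ e'.inv.toNatTrans.app s) ≫ _ = _
    rw [Category.assoc]
    refine congrArg (e.hom.toNatTrans.app s ≫ ·) ?_
    rw [← he' s, ← Category.assoc]
    exact (congrArg (· ≫ c'.ι s) (app_eq_of_eq e'.inv_hom_id s)).trans (Category.id_comp _)
  refine ⟨inv p₁ ≫ α.toNatTrans.app (ov (𝟙 U)) ≫ p₂, ⟨?_, fun s => ?_⟩, fun h hh => ?_⟩
  · simp [map_app, hp₁, hp₂]
  · have h1 : e.hom.toNatTrans.app s ≫ c.ι s ≫ inv p₁ ≫ α.toNatTrans.app (ov (𝟙 U)) ≫ p₂ =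
        e.hom.toNatTrans.app s ≫ c'.ι s := by
      rw [← Category.assoc, he s, ← hA s, Category.assoc, IsIso.hom_inv_id_assoc, ← hγ s, ← hB s,
        ← Category.assoc, ← Category.assoc]
      refine congrArg (· ≫ p₂) ?_
      refine (α.toNatTrans.naturality (toTop s.obj)).trans ?_
      exact congrArg (· ≫ B.map (toTop s.obj)) (app_eq_of_eq hα s)
    have := isIso_of_vert (e.hom.toNatTrans.app s) (map_app _ _ e.hom s)
    exact (cancel_epi _).1 h1
  · let a : A.obj (ov (𝟙 U)) ⟶ B.obj (ov (𝟙 U)) := p₁ ≫ h ≫ inv p₂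
    have ha : 𝒳.p.map a = eqToHom ((A.w_obj _).trans (B.w_obj _).symm) := by
      simp [a, hh.1, hp₁, hp₂]
    let β := funIso (y := A) (y' := B) a ha
    have hβ : β.hom = α := (Stk.resSieve R 𝒳).map_injective (by
      rw [hα]
      refine basedHom_ext fun s => hom_ext (pullHom c'.pt c'.base s.obj.hom) ?_ ?_
      · exact (map_app _ _ β.hom s.obj).trans (map_app _ _ (e.hom ≫ e'.inv) s).symm
      · refine Eq.trans ?_ (hγ s).symm
        rw [← hh.2 s, ← Category.assoc (e.hom.toNatTrans.app s), he s, ← hA s, ← hB s, ← Category.assoc,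
          show (((Stk.resSieve R 𝒳).map β.hom).toNatTrans.app s) ≫ B.map (toTop s.obj) = A.map (toTop s.obj) ≫ a
            from funIso_app a ha s.obj]
        simp [a])
    have h2 := funIso_app (y := A) (y' := B) a ha (ov (𝟙 U))
    have ht : toTop (ov (𝟙 U)) = 𝟙 _ := Over.OverMorphism.ext rfl
    rw [show (funIso (y := A) (y' := B) a ha).hom = α from hβ, ht, A.toFunctor.map_id, B.toFunctor.map_id,
      Category.comp_id, Category.id_comp] at h2
    rw [h2]
    simp [a]

theorem isPrestackFor_of_uniq (hu : SConeUniq R 𝒳) : Stk.IsPrestackFor R 𝒳 := by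
  constructor
  · refine ⟨fun {A B} γ => ?_⟩
    obtain ⟨h, ⟨hh, hι⟩, -⟩ := hu _ (coneOf A) ((coneOf B).ofIso γ)
    let β := funIso (y := A) (y' := B) h hh
    refine ⟨β.hom, basedHom_ext fun s => hom_ext (B.map (toTop s.obj)) ?_ ?_⟩
    · exact (map_app _ _ β.hom s.obj).trans (map_app _ _ γ s).symm
    · exact (funIso_app h hh s.obj).trans (hι s)
  · refine ⟨fun {A B} {α β} e => basedHom_ext fun g => hom_ext (B.map (toTop g)) ?_ ?_⟩
    · rw [map_app, map_app]
    · obtain ⟨h, -, hun⟩ := hu _ (coneOf A) ((coneOf B).ofIso ((Stk.resSieve R 𝒳).map α))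
      have key : ∀ δ : A ⟶ B, (Stk.resSieve R 𝒳).map δ = (Stk.resSieve R 𝒳).map α →
          δ.toNatTrans.app (ov (𝟙 U)) = h := fun δ hδ => hun _ ⟨map_app _ _ δ _, fun s =>
        (δ.toNatTrans.naturality (toTop s.obj)).trans (congrArg (· ≫ B.map (toTop s.obj)) (app_eq_of_eq hδ s))⟩
      rw [← α.toNatTrans.naturality, ← β.toNatTrans.naturality, key α rfl, key β e.symm]

theorem isPrestackFor_iff : Stk.IsPrestackFor R 𝒳 ↔ SConeUniq R 𝒳 :=
  ⟨uniq_of_isPrestackFor, isPrestackFor_of_uniq⟩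

theorem isStackFor_iff : Stk.IsStackFor R 𝒳 ↔ SConeUniq R 𝒳 ∧ SGlue R 𝒳 := by
  constructor
  · intro h
    have : (Stk.resSieve R 𝒳).IsEquivalence := h
    exact ⟨uniq_of_isPrestackFor ⟨inferInstance, inferInstance⟩, fun D =>
      ⟨(coneOf ((Stk.resSieve R 𝒳).objPreimage D)).ofIso ((Stk.resSieve R 𝒳).objObjPreimageIso D).inv⟩⟩
  · rintro ⟨hu, hg⟩
    obtain ⟨hfu, hfa⟩ := isPrestackFor_of_uniq hu
    have hes : (Stk.resSieve R 𝒳).EssSurj := ⟨fun D => by
      obtain ⟨c⟩ := hg D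
      obtain ⟨e, -⟩ := c.exists_iso
      exact ⟨_, ⟨e⟩⟩⟩
    exact Functor.IsEquivalence.mk hfa hfu hes

theorem isStack_iff {J : GrothendieckTopology C} : Stk.IsStack J 𝒳 ↔
    ∀ ⦃U : C⦄ (R : Sieve U), R ∈ J U → SConeUniq R 𝒳 ∧ SGlue R 𝒳 :=
  ⟨fun h U R hR => isStackFor_iff.1 (h.2 R hR), fun h => ⟨h𝒳, fun U R hR => isStackFor_iff.2 (h R hR)⟩⟩

theorem isIso_of_cone_hom {D : Stk.sieveCat R ⥤ᵇ 𝒳} {c c' : SCone D} (h : c.pt ⟶ c'.pt)
    (e : 𝒳.p.map h = eqToHom (c.base.trans c'.base.symm)) : IsIso h :=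
  isIso_of_vert h e

section Shift

variable {V : C} {S : Sieve V}

/-- Pushing a sieve on `V` into a sieve on `U` along `f : V ⟶ U`. -/
def shift (f : V ⟶ U) (h : S ≤ R.pullback f) : Stk.sieveCat S ⥤ᵇ Stk.sieveCat R where
  toFunctor :=
    { obj := fun s => (⟨Over.mk (s.obj.hom ≫ f), h _ s.property⟩ : (Stk.sieveCat R).obj)
      map := fun {s t} m => ObjectProperty.homMk (Over.homMk m.hom.left
        ((Category.assoc _ _ _).symm.trans (congrArg (· ≫ f) (Over.w m.hom))))
      map_id := fun s => rfl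
      map_comp := fun m n => rfl }
  w := rfl

/-- The member `f` of a sieve as an object. -/
abbrev sMk (f : V ⟶ U) (hf : R f) : (Stk.sieveCat R).obj := ⟨Over.mk f, hf⟩

/-- The tautological morphism to the member `f`. -/
def toMem (f : V ⟶ U) (h : S ≤ R.pullback f) (hf : R f) (g : (Stk.sieveCat S).obj) :
    (shift f h).obj g ⟶ sMk f hf :=
  ObjectProperty.homMk (Over.homMk g.obj.hom rfl)

theorem sieve_hom_ext {s t : (Stk.sieveCat R).obj} {m n : s ⟶ t} (h : m.hom.left = n.hom.left) : m = n :=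
  ObjectProperty.hom_ext _ (Over.OverMorphism.ext h)

/-- A morphism out of the value of a datum at a member `f` is determined by, and may be glued from,
its composites with the values on a sieve for which `𝒳` separates and glues morphisms. -/
theorem existsUnique_arrow (hu : SConeUniq S 𝒳) (D : Stk.sieveCat R ⥤ᵇ 𝒳) (f : V ⟶ U)
    (h : S ≤ R.pullback f) (hf : R f) (y : 𝒳.obj) (hy : 𝒳.p.obj y = U)
    (τ : ∀ g, D.obj ((shift f h).obj g) ⟶ y)
    (hτ : ∀ g, 𝒳.p.map (τ g) = eqToHom (D.w_obj _) ≫ (g.obj.hom ≫ f) ≫ eqToHom hy.symm)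
    (hn : ∀ {g g'} (m : g ⟶ g'), D.map ((shift f h).map m) ≫ τ g' = τ g) :
    ∃! k : D.obj (sMk f hf) ⟶ y, 𝒳.p.map k = eqToHom (D.w_obj _) ≫ f ≫ eqToHom hy.symm ∧
      ∀ g, D.map (toMem f h hf g) ≫ k = τ g := by
  let x := pull y hy f
  let φ : x ⟶ y := pullHom y hy f
  let c : SCone (BasedFunctor.comp (shift f h) D) :=
    { pt := D.obj (sMk f hf)
      base := D.w_obj _
      ι := fun g => D.map (toMem f h hf g)
      map_ι := fun g => map_w D (toMem f h hf g)
      nat := fun {g g'} m => by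
        refine (D.toFunctor.map_comp _ _).symm.trans (congrArg (fun n => D.map n) ?_)
        exact sieve_hom_ext (Over.w m.hom) }
  have e : ∀ g, (eqToHom (D.w_obj ((shift f h).obj g)) ≫ g.obj.hom ≫ eqToHom (pull_base y hy f).symm) ≫
      𝒳.p.map φ = 𝒳.p.map (τ g) := fun g => by
    rw [hτ, map_pullHom]
    simp
  let c' : SCone (BasedFunctor.comp (shift f h) D) :=
    { pt := x
      base := pull_base y hy f
      ι := fun g => facMap φ (τ g) _ (e g)
      map_ι := fun g => map_facMap _ _ _ _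
      nat := fun {g g'} m => by
        refine hom_ext φ ?_ ?_
        · rw [Functor.map_comp, map_facMap, map_facMap]
          refine (congrArg (· ≫ _) (map_w (BasedFunctor.comp (shift f h) D) m)).trans ?_
          have := Over.w m.hom
          simp only [Category.assoc, eqToHom_trans_assoc, eqToHom_refl, Category.id_comp]
          exact congrArg (fun k => eqToHom _ ≫ k)
            ((Category.assoc _ _ _).symm.trans (congrArg (· ≫ eqToHom _) this))
        · rw [Category.assoc, facMap_comp, facMap_comp]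
          exact hn m }
  obtain ⟨a, ⟨ha, hι⟩, hun⟩ := hu _ c c'
  refine ⟨a ≫ φ, ⟨by simp [φ, ha, c, c'], fun g => ?_⟩, fun k ⟨hk, hk'⟩ => ?_⟩
  · exact (Category.assoc _ _ _).symm.trans ((congrArg (· ≫ φ) (hι g)).trans (facMap_comp φ (τ g) _ (e g)))
  · let b := facMap φ k (eqToHom ((D.w_obj (sMk f hf)).trans (pull_base y hy f).symm)) (by rw [hk]; simp [φ])
    have hb : b = a := hun b ⟨map_facMap _ _ _ _, fun g => by
      refine hom_ext φ ?_ ?_
      · rw [Functor.map_comp, c.map_ι, c'.map_ι, map_facMap]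
        simp
      · rw [Category.assoc, facMap_comp]
        exact (hk' g).trans (facMap_comp φ (τ g) _ (e g)).symm⟩
    rw [← hb, facMap_comp]

end Shift

/-- Restricting a datum to a smaller sieve. -/
def subFun {S : Sieve U} (h : S ≤ R) : Stk.sieveCat S ⥤ᵇ Stk.sieveCat R where
  toFunctor :=
    { obj := fun s => (⟨s.obj, h _ s.property⟩ : (Stk.sieveCat R).obj)
      map := fun m => ObjectProperty.homMk m.hom
      map_id := fun s => rfl
      map_comp := fun m n => rfl }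
  w := rfl

/-- Restricting a cone to a smaller sieve. -/
def SCone.restrict {D : Stk.sieveCat R ⥤ᵇ 𝒳} (c : SCone D) {S : Sieve U} (h : S ≤ R) :
    SCone (BasedFunctor.comp (subFun h) D) where
  pt := c.pt
  base := c.base
  ι s := c.ι ((subFun h).obj s)
  map_ι s := c.map_ι ((subFun h).obj s)
  nat m := c.nat ((subFun h).map m)

/-- Descent for a sieve containing one which has descent. -/
theorem isStackFor_of_le {S : Sieve U} (hSR : S ≤ R) (hS : Stk.IsStackFor S 𝒳)
    (hR : ∀ ⦃V : C⦄ (f : V ⟶ U), R f → Stk.IsPrestackFor (S.pullback f) 𝒳) : Stk.IsStackFor R 𝒳 := by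
  obtain ⟨hSu, hSg⟩ := isStackFor_iff.1 hS
  have key := fun (D : Stk.sieveCat R ⥤ᵇ 𝒳) (c₀ : SCone (BasedFunctor.comp (subFun hSR) D))
      (s : (Stk.sieveCat R).obj) =>
    existsUnique_arrow (isPrestackFor_iff.1 (hR s.obj.hom s.property)) D s.obj.hom
      (fun W g hg => hSR _ hg) s.property c₀.pt c₀.base
      (fun g => c₀.ι ⟨Over.mk (g.obj.hom ≫ s.obj.hom), g.property⟩)
      (fun g => c₀.map_ι ⟨Over.mk (g.obj.hom ≫ s.obj.hom), g.property⟩)
      (fun {g g'} m => c₀.nat (s := ⟨Over.mk (g.obj.hom ≫ s.obj.hom), g.property⟩)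
        (t := ⟨Over.mk (g'.obj.hom ≫ s.obj.hom), g'.property⟩) (ObjectProperty.homMk (Over.homMk m.hom.left
        ((Category.assoc _ _ _).symm.trans (congrArg (· ≫ s.obj.hom) (Over.w m.hom))))))
  refine isStackFor_iff.2 ⟨fun D c c' => ?_, fun D => ?_⟩
  · obtain ⟨h, ⟨hh, hι⟩, hun⟩ := hSu _ (c.restrict hSR) (c'.restrict hSR)
    refine ⟨h, ⟨hh, fun s => ?_⟩, fun h' hh' => hun h' ⟨hh'.1, fun g => hh'.2 _⟩⟩
    refine (key D (c'.restrict hSR) s).unique ⟨?_, fun g => ?_⟩ ⟨c'.map_ι s, fun g => c'.nat _⟩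
    · rw [Functor.map_comp, c.map_ι]
      simp [hh, SCone.restrict]
    · exact (Category.assoc _ _ _).symm.trans ((congrArg (· ≫ h) (c.nat _)).trans
        (hι ⟨Over.mk (g.obj.hom ≫ s.obj.hom), g.property⟩))
  · obtain ⟨c₀⟩ := hSg (BasedFunctor.comp (subFun hSR) D)
    choose ι hι hun using key D c₀
    refine ⟨{ pt := c₀.pt, base := c₀.base, ι := ι, map_ι := fun s => (hι s).1, nat := fun {s t} m => ?_ }⟩
    refine hun s _ ⟨?_, fun g => ?_⟩
    · rw [Functor.map_comp, (hι t).1, map_w D m]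
      have := Over.w m.hom
      simp
      exact congrArg (fun k => eqToHom _ ≫ k)
        ((Category.assoc _ _ _).symm.trans (congrArg (· ≫ eqToHom _) this))
    · let g' : (Stk.sieveCat (S.pullback t.obj.hom)).obj := ⟨Over.mk (g.obj.hom ≫ m.hom.left), by
        show S ((g.obj.hom ≫ m.hom.left) ≫ t.obj.hom)
        rw [Category.assoc, Over.w m.hom]
        exact g.property⟩
      have hw : (g.obj.hom ≫ m.hom.left) ≫ t.obj.hom = g.obj.hom ≫ s.obj.hom := by
        rw [Category.assoc, Over.w m.hom]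
      let j : (⟨Over.mk (g.obj.hom ≫ s.obj.hom), g.property⟩ : (Stk.sieveCat S).obj) ⟶
          ⟨Over.mk (g'.obj.hom ≫ t.obj.hom), g'.property⟩ :=
        ObjectProperty.homMk (Over.homMk (𝟙 _) ((Category.id_comp _).trans hw))
      refine Eq.trans ?_ (c₀.nat j)
      refine Eq.trans ?_ (congrArg (fun k => D.map ((subFun hSR).map j) ≫ k) ((hι t).2 g'))
      rw [← Category.assoc, ← Category.assoc]
      refine congrArg (· ≫ ι t) ?_
      refine (D.toFunctor.map_comp _ _).symm.trans (Eq.trans ?_ (D.toFunctor.map_comp _ _))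
      exact congrArg (fun k => D.map k) (sieve_hom_ext (Category.id_comp _).symm)

end Groth.Agent.RepOne
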