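import Groth.Agent.RepOne.Basic
import Groth.Agent.ASt.Diag
import Mathlib.CategoryTheory.Limits.Constructions.BinaryProducts
/-!
Fibres over slices, graphs, and the diagonal over the base.
-/

set_option backward.isDefEq.respectTransparency false
set_option backward.isDefEq.respectTransparency.types false
set_option linter.unusedSectionVars false

universe v₄ u₄ v₃ u₃ v₂ u₂ v u

open CategoryTheory CategoryTheory.Limits

namespace Groth.Agent.RepOne

open Groth.Agent.ASt

variable {C : Type u} [Category.{v} C]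

/-- The functor between slices induced by a morphism. -/
abbrev mapF {U V : C} (f : U ⟶ V) : FibCat.overCat U ⥤ᵇ FibCat.overCat V :=
  ⟨Over.map f, Over.mapForget_eq f⟩

section Slice

theorem slice_hom {U Y : C} (y : FibCat.overCat U ⥤ᵇ FibCat.overCat Y) (g : (FibCat.overCat U).obj) :
    (y.obj g).hom = eqToHom (y.w_obj g) ≫ g.hom ≫ eqToHom (y.w_obj (ov (𝟙 U))).symm ≫
      (y.obj (ov (𝟙 U))).hom := by
  have h := map_toTop y g
  have h' : (y.map (toTop g)).left = eqToHom (y.w_obj g) ≫ g.hom ≫ eqToHom (y.w_obj (ov (𝟙 U))).symm := h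
  rw [← Over.w (y.map (toTop g)), h']
  simp only [Category.assoc]

theorem isRepresentable1_mapF [HasPullbacks C] {X Y : C} (f : X ⟶ Y) :
    FibCat.IsRepresentable1 (mapF f) := by
  intro U y
  let k : U ⟶ Y := eqToHom (y.w_obj (ov (𝟙 U))).symm ≫ (y.obj (ov (𝟙 U))).hom
  let P := pullback k f
  let a₀ : (BasedFunctor.comp (mapF (pullback.fst k f)) y).obj (ov (𝟙 P)) ⟶
      (BasedFunctor.comp (mapF (pullback.snd k f)) (mapF f)).obj (ov (𝟙 P)) :=
    Over.homMk (eqToHom ((y.w_obj _).trans rfl)) (by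
      change eqToHom _ ≫ (𝟙 P ≫ pullback.snd k f) ≫ f = (y.obj (ov (𝟙 P ≫ pullback.fst k f))).hom
      refine Eq.trans ?_ (slice_hom y (ov (𝟙 P ≫ pullback.fst k f))).symm
      change eqToHom _ ≫ (𝟙 P ≫ pullback.snd k f) ≫ f = eqToHom _ ≫ (𝟙 P ≫ pullback.fst k f) ≫ k
      rw [Category.assoc, Category.assoc, pullback.condition])
  let e := funIso (y := BasedFunctor.comp (mapF (pullback.fst k f)) y)
    (y' := BasedFunctor.comp (mapF (pullback.snd k f)) (mapF f)) a₀ rfl
  let E := FibCat.fpLift (mapF (pullback.fst k f)) (mapF (pullback.snd k f)) e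
  refine rep_of_equiv_overCat (E := E) ?_
  have : E.toFunctor.Faithful :=
    ⟨fun {g g'} {u v} h => Over.OverMorphism.ext (congrArg (fun t => t.hom.fst.left) h :)⟩
  have : E.toFunctor.Full := ⟨fun {g g'} h => by
    have e1 : h.hom.snd.left = h.hom.fst.left := by
      refine (fp_map_snd h).trans ?_
      exact (Category.id_comp _).trans (Category.comp_id _)
    refine ⟨Over.homMk h.hom.fst.left (pullback.hom_ext ?_ ?_), fp_hom_ext (Over.OverMorphism.ext rfl)
      (Over.OverMorphism.ext e1.symm)⟩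
    · exact (Category.assoc _ _ _).trans (Over.w h.hom.fst)
    · have := Over.w h.hom.snd
      rw [e1] at this
      exact (Category.assoc _ _ _).trans this⟩
  refine isEquivOver_of_vert E fun z => ?_
  let a := z.obj.fst
  let b := z.obj.snd
  have hb : b.left = a.left := fp_snd_base z
  have hi : z.obj.iso.hom.left = eqToHom _ := fp_iso_map z
  have hc : a.hom ≫ k = (eqToHom hb.symm ≫ b.hom) ≫ f := by
    have h1 : z.obj.iso.hom.left ≫ b.hom ≫ f = (y.obj a).hom := Over.w z.obj.iso.hom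
    rw [hi, slice_hom] at h1
    rw [← cancel_epi (eqToHom (y.w_obj a)), ← h1, Category.assoc, eqToHom_trans_assoc]
  refine ⟨ov (pullback.lift a.hom (eqToHom hb.symm ≫ b.hom) hc), rfl,
    fpIsoMk (Over.isoMk (Iso.refl _) ((Category.id_comp _).trans (pullback.lift_fst _ _ _).symm))
      (Over.isoMk (eqToIso hb.symm) (pullback.lift_snd _ _ _).symm) ?_, ?_⟩
  · apply (FibCat.overCat Y).p.map_injective
    rw [Functor.map_comp, Functor.map_comp, fp_iso_map, fp_iso_map, map_w, map_w]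
    simp [ov_p_map]
    try first | rfl | (erw [Category.id_comp]; simp)
  · rfl

theorem isRepresentable1_toSelf_overCat [HasBinaryProducts C] (V : C) :
    FibCat.IsRepresentable1 (FibCat.toSelf (FibCat.overCat V)) := by
  intro U y
  let e := funIso (y := BasedFunctor.comp (mapF (Limits.prod.fst : U ⨯ V ⟶ U)) y)
    (y' := BasedFunctor.comp (mapF (Limits.prod.snd : U ⨯ V ⟶ V)) (FibCat.toSelf (FibCat.overCat V)))
    (eqToHom ((y.w_obj _).trans rfl)) rfl
  let E := FibCat.fpLift (mapF (Limits.prod.fst : U ⨯ V ⟶ U)) (mapF (Limits.prod.snd : U ⨯ V ⟶ V)) e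
  refine rep_of_equiv_overCat (E := E) ?_
  have : E.toFunctor.Faithful :=
    ⟨fun {g g'} {u v} h => Over.OverMorphism.ext (congrArg (fun t => t.hom.fst.left) h :)⟩
  have : E.toFunctor.Full := ⟨fun {g g'} h => by
    have e1 : h.hom.snd.left = h.hom.fst.left := by
      refine (fp_map_snd h).trans ?_
      exact (Category.id_comp _).trans (Category.comp_id _)
    refine ⟨Over.homMk h.hom.fst.left (Limits.prod.hom_ext ?_ ?_), fp_hom_ext (Over.OverMorphism.ext rfl)
      (Over.OverMorphism.ext e1.symm)⟩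
    · exact (Category.assoc _ _ _).trans (Over.w h.hom.fst)
    · have := Over.w h.hom.snd
      rw [e1] at this
      exact (Category.assoc _ _ _).trans this⟩
  refine isEquivOver_of_vert E fun z => ?_
  have hb : z.obj.snd.left = z.obj.fst.left := fp_snd_base z
  refine ⟨ov (Limits.prod.lift z.obj.fst.hom (eqToHom hb.symm ≫ z.obj.snd.hom)), rfl,
    fpIsoMk (Over.isoMk (Iso.refl _) ((Category.id_comp _).trans (Limits.prod.lift_fst _ _).symm))
      (Over.isoMk (eqToIso hb.symm) (Limits.prod.lift_snd _ _).symm) ?_, ?_⟩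
  · apply (FibCat.selfOver C).p.map_injective
    rw [Functor.map_comp, Functor.map_comp, fp_iso_map, fp_iso_map, map_w, map_w]
    simp [ov_p_map]
    try first | rfl | (erw [Category.id_comp]; simp)
  · rfl

end Slice

section Graph

variable {𝒳 : BasedCategory.{v₂, u₂} C} {𝒴 : BasedCategory.{v₃, u₃} C}
  {𝒵 : BasedCategory.{v₄, u₄} C}
variable (f : 𝒳 ⥤ᵇ 𝒴) (g : 𝒴 ⥤ᵇ 𝒵) {U : C} (w : FibCat.overCat U ⥤ᵇ FibCat.fp g (BasedFunctor.comp f g))

/-- Fibres of the graph compared with fibres of the diagonal. -/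
noncomputable def graphMap :
    FibCat.fp w (graph f g) ⥤ᵇ FibCat.fp (BasedFunctor.comp w (graphTo f g)) (FibCat.diag g) :=
  FibCat.fpLift (FibCat.fpFst w (graph f g)) (BasedFunctor.comp (FibCat.fpSnd w (graph f g)) f)
    (wR (FibCat.fpIso w (graph f g)) (graphTo f g))

theorem isEquivOver_graphMap : FibCat.IsEquivOver (graphMap f g w) := by
  have key : ∀ {m n : (FibCat.fp w (graph f g)).obj} (a : m.obj.fst ⟶ n.obj.fst) (v : m.obj.snd ⟶ n.obj.snd),
      (w.map a).hom.fst ≫ n.obj.iso.hom.hom.fst = m.obj.iso.hom.hom.fst ≫ f.map v →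
      (w.map a).hom.snd ≫ n.obj.iso.hom.hom.snd = m.obj.iso.hom.hom.snd ≫ v →
      w.map a ≫ n.obj.iso.hom = m.obj.iso.hom ≫ (graph f g).map v := fun a v h1 h2 => fp_hom_ext h1 h2
  have : (graphMap f g w).toFunctor.Faithful := ⟨fun {m n h k} e => by
    have e1 : h.hom.fst = k.hom.fst := congrArg (fun t => t.hom.fst) e
    refine fp_hom_ext e1 ?_
    have w1 : (w.map h.hom.fst).hom.snd ≫ n.obj.iso.hom.hom.snd = m.obj.iso.hom.hom.snd ≫ h.hom.snd :=
      congrArg (fun t => t.hom.snd) h.hom.w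
    have w2 : (w.map k.hom.fst).hom.snd ≫ n.obj.iso.hom.hom.snd = m.obj.iso.hom.hom.snd ≫ k.hom.snd :=
      congrArg (fun t => t.hom.snd) k.hom.w
    rw [e1] at w1
    let i := (FibCat.fpSnd g (BasedFunctor.comp f g)).toFunctor.mapIso m.obj.iso
    exact (cancel_epi i.hom).1 (w1.symm.trans w2)⟩
  have : (graphMap f g w).toFunctor.Full := ⟨fun {m n} h => by
    let i := (FibCat.fpSnd g (BasedFunctor.comp f g)).toFunctor.mapIso m.obj.iso
    let v : m.obj.snd ⟶ n.obj.snd := i.inv ≫ (w.map h.hom.fst).hom.snd ≫ n.obj.iso.hom.hom.snd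
    have w1 : (w.map h.hom.fst).hom.fst ≫ n.obj.iso.hom.hom.fst = m.obj.iso.hom.hom.fst ≫ h.hom.snd :=
      congrArg (fun t => t.hom.fst) h.hom.w
    have w2 : f.map (w.map h.hom.fst).hom.snd ≫ f.map n.obj.iso.hom.hom.snd =
        f.map i.hom ≫ h.hom.snd := congrArg (fun t => t.hom.snd) h.hom.w
    have hv : f.map v = h.hom.snd := by
      simp only [v, Functor.map_comp]
      rw [← cancel_epi (f.map i.hom)]
      exact ((f.toFunctor.mapIso i).hom_inv_id_assoc _).trans w2
    refine ⟨fpHomMk h.hom.fst v (key _ _ (by rw [hv]; exact w1) ?_), fp_hom_ext rfl hv⟩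
    exact (i.hom_inv_id_assoc _).symm⟩
  refine isEquivOver_of_vert _ fun z => ?_
  let p := w.obj z.obj.fst
  let j1 : p.obj.fst ≅ z.obj.snd := (FibCat.fpFst g g).toFunctor.mapIso z.obj.iso
  let j2 : f.obj p.obj.snd ≅ z.obj.snd := (FibCat.fpSnd g g).toFunctor.mapIso z.obj.iso
  have hj1 : 𝒴.p.map j1.hom = eqToHom _ := fp_iso_map z
  have hj2 : 𝒴.p.map j2.hom = eqToHom ((f.w_obj _).trans ((fp_snd_base p).trans
      ((w.w_obj _).trans (fp_snd_base z).symm))) := by
    change 𝒴.p.map z.obj.iso.hom.hom.snd = _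
    rw [fp_map_snd, show 𝒴.p.map z.obj.iso.hom.hom.fst = eqToHom _ from hj1]
    simp
  have hj2' := map_snd_vert j2 hj2
  have hw : g.map z.obj.iso.hom.hom.fst ≫ 𝟙 (g.obj z.obj.snd) = p.obj.iso.hom ≫ g.map j2.hom :=
    z.obj.iso.hom.hom.w
  let φ : p ≅ (graph f g).obj p.obj.snd := fpIsoMk (j1 ≪≫ j2.symm) (Iso.refl _) (by
    change g.map (j1.hom ≫ j2.inv) ≫ 𝟙 _ = p.obj.iso.hom ≫ g.map (f.map (𝟙 _))
    have h3 : g.map j1.hom = p.obj.iso.hom ≫ g.map j2.hom := (Category.comp_id _).symm.trans hw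
    rw [Functor.map_comp, h3]
    simp
    try exact (congrArg (fun t => p.obj.iso.hom ≫ t) (g.toFunctor.mapIso j2).hom_inv_id).trans (Category.comp_id _))
  have hφ : (FibCat.fp g (BasedFunctor.comp f g)).p.map φ.hom = eqToHom ((w.w_obj z.obj.fst).trans
      (((fp_snd_base p).trans (w.w_obj _)).symm.trans ((graph f g).w_obj p.obj.snd).symm)) := by
    change 𝒴.p.map (j1.hom ≫ j2.inv) = _
    rw [Functor.map_comp, hj1, hj2']
    simp
  refine ⟨fpMk z.obj.fst p.obj.snd ((fp_snd_base p).trans (w.w_obj _)) φ hφ, rfl,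
    fpIsoMk (Iso.refl _) j2 (fp_hom_ext ?_ ?_), ((FibCat.overCat U).p.map_id _).trans rfl⟩
  · change (w.map (𝟙 z.obj.fst)).hom.fst ≫ j1.hom = (j1.hom ≫ j2.inv) ≫ j2.hom
    simp
    try exact Category.id_comp _
  · change f.map (w.map (𝟙 z.obj.fst)).hom.snd ≫ j2.hom = f.map (𝟙 _) ≫ j2.hom
    simp
    try rfl

theorem isRepresentable1_of_comp (hgf : FibCat.IsRepresentable1 (BasedFunctor.comp f g))
    (hΔ : FibCat.IsRepresentable1 (FibCat.diag g)) : FibCat.IsRepresentable1 f := by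
  rw [← graph_fst f g]
  refine isRepresentable1_comp _ _ (fun U w => ?_) (isRepresentable1_baseChange _ g hgf)
  exact rep_of_equiv_left (isEquivOver_graphMap f g w) (hΔ U (BasedFunctor.comp w (graphTo f g)))

end Graph

section Diag

variable {𝒮 : BasedCategory.{v, max u v} C}

theorem isRepresentable1_slice_of_diag [HasBinaryProducts C]
    (h : FibCat.IsRepresentable1 (FibCat.diag (FibCat.toSelf 𝒮))) {V : C} (x : FibCat.overCat V ⥤ᵇ 𝒮) :
    FibCat.IsRepresentable1 x := by
  refine isRepresentable1_of_comp x (FibCat.toSelf 𝒮) ?_ h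
  have e : BasedFunctor.comp x (FibCat.toSelf 𝒮) = FibCat.toSelf (FibCat.overCat V) := basedFunctor_ext x.w
  rw [e]
  exact isRepresentable1_toSelf_overCat V

theorem isRepresentable1_diag_overCat [HasBinaryProducts C] [HasPullbacks C] (U : C) :
    FibCat.IsRepresentable1 (FibCat.diag (FibCat.toSelf (FibCat.overCat U))) := by
  let T := FibCat.toSelf (FibCat.overCat U)
  let e := funIso (y := BasedFunctor.comp (mapF (Limits.prod.fst : U ⨯ U ⟶ U)) T)
    (y' := BasedFunctor.comp (mapF (Limits.prod.snd : U ⨯ U ⟶ U)) T) (𝟙 (U ⨯ U)) rfl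
  let b := FibCat.fpLift (mapF (Limits.prod.fst : U ⨯ U ⟶ U)) (mapF (Limits.prod.snd : U ⨯ U ⟶ U)) e
  have hb : FibCat.IsEquivOver b := by
    have : b.toFunctor.Faithful :=
      ⟨fun {g g'} {u v} h => Over.OverMorphism.ext (congrArg (fun t => t.hom.fst.left) h :)⟩
    have : b.toFunctor.Full := ⟨fun {g g'} h => by
      have e1 : h.hom.snd.left = h.hom.fst.left := by
        refine (fp_map_snd h).trans ?_
        exact (Category.id_comp _).trans (Category.comp_id _)
      refine ⟨Over.homMk h.hom.fst.left (Limits.prod.hom_ext ?_ ?_), fp_hom_ext (Over.OverMorphism.ext rfl)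
        (Over.OverMorphism.ext e1.symm)⟩
      · exact (Category.assoc _ _ _).trans (Over.w h.hom.fst)
      · have := Over.w h.hom.snd
        rw [e1] at this
        exact (Category.assoc _ _ _).trans this⟩
    refine isEquivOver_of_vert b fun z => ?_
    have hz : z.obj.snd.left = z.obj.fst.left := fp_snd_base z
    refine ⟨ov (Limits.prod.lift z.obj.fst.hom (eqToHom hz.symm ≫ z.obj.snd.hom)), rfl,
      fpIsoMk (Over.isoMk (Iso.refl _) ((Category.id_comp _).trans (Limits.prod.lift_fst _ _).symm))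
        (Over.isoMk (eqToIso hz.symm) (Limits.prod.lift_snd _ _).symm) ?_, ?_⟩
    · apply (FibCat.selfOver C).p.map_injective
      rw [Functor.map_comp, Functor.map_comp, fp_iso_map, fp_iso_map, map_w, map_w]
      simp [ov_p_map]
      exact (Category.id_comp _).trans rfl
    · rfl
  let c : BasedFunctor.comp (mapF (Limits.diag U)) b ≅
      BasedFunctor.comp (BasedFunctor.id _) (FibCat.diag T) :=
    BasedNatIso.mkNatIso (NatIso.ofComponents (fun g => fpIsoMk
      (Over.isoMk (Iso.refl g.left) (by change 𝟙 g.left ≫ g.hom = (g.hom ≫ Limits.diag U) ≫ Limits.prod.fst; simp))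
      (Over.isoMk (Iso.refl g.left) (by change 𝟙 g.left ≫ g.hom = (g.hom ≫ Limits.diag U) ≫ Limits.prod.snd; simp))
      (by
        apply (FibCat.selfOver C).p.map_injective
        rw [Functor.map_comp, Functor.map_comp, fp_iso_map, fp_iso_map, map_w, map_w]
        simp [ov_p_map]
        try rfl))
      (fun {g g'} u => fp_hom_ext (Over.OverMorphism.ext ((Category.comp_id _).trans (Category.id_comp _).symm))
        (Over.OverMorphism.ext ((Category.comp_id _).trans (Category.id_comp _).symm))))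
      (fun g => isHomLift_id_of_map _ rfl (e := rfl) rfl)
  exact (isRepresentable1_iff_of_equiv (FibCat.diag T) (mapF (Limits.diag U)) (BasedFunctor.id _) b
    isEquivOver_id hb c).2 (isRepresentable1_mapF _)

variable {U : C} (w : FibCat.overCat U ⥤ᵇ FibCat.fp (FibCat.toSelf 𝒮) (FibCat.toSelf 𝒮))

local notation "W₁" => BasedFunctor.comp w (FibCat.fpFst (FibCat.toSelf 𝒮) (FibCat.toSelf 𝒮))
local notation "W₂" => BasedFunctor.comp w (FibCat.fpSnd (FibCat.toSelf 𝒮) (FibCat.toSelf 𝒮))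

/-- The two points of the fibre product of the components. -/
noncomputable def pts : FibCat.fp W₁ W₂ ⥤ᵇ
    FibCat.fp (FibCat.toSelf (FibCat.overCat U)) (FibCat.toSelf (FibCat.overCat U)) :=
  FibCat.fpLift (FibCat.fpFst W₁ W₂) (FibCat.fpSnd W₁ W₂)
    (eqToIso (basedFunctor_ext ((FibCat.fpFst W₁ W₂).w.trans (FibCat.fpSnd W₁ W₂).w.symm)))

/-- The fibre of the diagonal mapped to the fibre product of the components. -/
noncomputable def dbl : FibCat.fp w (FibCat.diag (FibCat.toSelf 𝒮)) ⥤ᵇ FibCat.fp W₁ W₂ :=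
  FibCat.fpLift (FibCat.fpFst w (FibCat.diag (FibCat.toSelf 𝒮))) (FibCat.fpFst w (FibCat.diag (FibCat.toSelf 𝒮)))
    (wR (FibCat.fpIso w (FibCat.diag (FibCat.toSelf 𝒮))) (FibCat.fpFst _ _) ≪≫
      (wR (FibCat.fpIso w (FibCat.diag (FibCat.toSelf 𝒮))) (FibCat.fpSnd _ _)).symm)

theorem dbl_pts : Nonempty (BasedFunctor.comp (dbl w) (pts w) ≅
    BasedFunctor.comp (FibCat.fpFst w (FibCat.diag (FibCat.toSelf 𝒮)))
      (FibCat.diag (FibCat.toSelf (FibCat.overCat U)))) :=
  ⟨BasedNatIso.mkNatIso (NatIso.ofComponents (fun m => fpIsoMk (Iso.refl _) (Iso.refl _) (by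
      apply (FibCat.selfOver C).p.map_injective
      rw [Functor.map_comp, Functor.map_comp, fp_iso_map, fp_iso_map, map_w, map_w]
      simp [ov_p_map]
      try rfl))
    (fun {m n} u => fp_hom_ext ((Category.comp_id _).trans (Category.id_comp _).symm)
      ((Category.comp_id _).trans (Category.id_comp _).symm)))
    (fun m => isHomLift_id_of_map _ rfl (e := rfl) rfl)⟩

theorem isEquivOver_dbl (e : BasedFunctor.comp (dbl w) (pts w) ≅
    BasedFunctor.comp (FibCat.fpFst w (FibCat.diag (FibCat.toSelf 𝒮)))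
      (FibCat.diag (FibCat.toSelf (FibCat.overCat U)))) :
    FibCat.IsEquivOver (FibCat.fpLift (dbl w) (FibCat.fpFst w (FibCat.diag (FibCat.toSelf 𝒮))) e) := by
  have : (FibCat.fpLift (dbl w) (FibCat.fpFst w (FibCat.diag (FibCat.toSelf 𝒮))) e).toFunctor.Faithful :=
    ⟨fun {m n h k} q => by
      have e1 : h.hom.fst = k.hom.fst := congrArg (fun t => t.hom.snd) q
      refine fp_hom_ext e1 ?_
      have w1 : (W₁).map h.hom.fst ≫ n.obj.iso.hom.hom.fst = m.obj.iso.hom.hom.fst ≫ h.hom.snd :=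
        congrArg (fun t => t.hom.fst) h.hom.w
      have w2 : (W₁).map k.hom.fst ≫ n.obj.iso.hom.hom.fst = m.obj.iso.hom.hom.fst ≫ k.hom.snd :=
        congrArg (fun t => t.hom.fst) k.hom.w
      rw [e1] at w1
      let i := (FibCat.fpFst (FibCat.toSelf 𝒮) (FibCat.toSelf 𝒮)).toFunctor.mapIso m.obj.iso
      exact (cancel_epi i.hom).1 (w1.symm.trans w2)⟩
  have hOv : ∀ {a b : (FibCat.overCat U).obj} (p q : a ⟶ b), p.left = q.left → p = q :=
    fun p q h => Over.OverMorphism.ext h
  have : (FibCat.fpLift (dbl w) (FibCat.fpFst w (FibCat.diag (FibCat.toSelf 𝒮))) e).toFunctor.Full :=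
    ⟨fun {m n} h => by
      let i2 := (FibCat.fpSnd (FibCat.toSelf 𝒮) (FibCat.toSelf 𝒮)).toFunctor.mapIso m.obj.iso
      let j2 := (FibCat.fpSnd (FibCat.toSelf 𝒮) (FibCat.toSelf 𝒮)).toFunctor.mapIso n.obj.iso
      have hfst : h.hom.fst.hom.fst = h.hom.snd := hOv _ _ (by
        have := fp_map_snd h
        exact (this.trans ((Category.id_comp _).trans (Category.comp_id _))).symm)
      have hsnd : h.hom.fst.hom.snd = h.hom.fst.hom.fst := hOv _ _
        ((fp_map_snd h.hom.fst).trans ((Category.id_comp _).trans (Category.comp_id _)))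
      have w1 : (W₁).map h.hom.fst.hom.fst ≫ n.obj.iso.hom.hom.fst ≫ j2.inv =
          (m.obj.iso.hom.hom.fst ≫ i2.inv) ≫ (W₂).map h.hom.fst.hom.snd := h.hom.fst.hom.w
      rw [hsnd, hfst] at w1
      let v : m.obj.snd ⟶ n.obj.snd := i2.inv ≫ (W₂).map h.hom.snd ≫ j2.hom
      have a1 : (W₁).map h.hom.snd ≫ n.obj.iso.hom.hom.fst = m.obj.iso.hom.hom.fst ≫ v := by
        have := congrArg (fun t => t ≫ j2.hom) w1
        simp only [Category.assoc, Iso.inv_hom_id, Category.comp_id] at this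
        exact this
      have a2 : (W₂).map h.hom.snd ≫ n.obj.iso.hom.hom.snd = m.obj.iso.hom.hom.snd ≫ v :=
        (i2.hom_inv_id_assoc _).symm
      refine ⟨fpHomMk h.hom.snd v (fp_hom_ext a1 a2), fp_hom_ext (fp_hom_ext hfst.symm ?_) rfl⟩
      exact hfst.symm.trans hsnd.symm⟩
  refine isEquivOver_of_vert _ fun z => ?_
  let m := z.obj.fst
  let c := z.obj.snd
  let T := FibCat.toSelf (FibCat.overCat U)
  let j1 : m.obj.fst ≅ c := (FibCat.fpFst T T).toFunctor.mapIso z.obj.iso
  let j2 : m.obj.snd ≅ c := (FibCat.fpSnd T T).toFunctor.mapIso z.obj.iso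
  have hj1 : j1.hom.left = eqToHom _ := fp_iso_map z
  have hj2 : j2.hom.left = eqToHom ((fp_snd_base m).trans (fp_snd_base z).symm) := by
    refine (fp_map_snd z.obj.iso.hom).trans ?_
    rw [show (FibCat.overCat U).p.map z.obj.iso.hom.hom.fst = eqToHom _ from fp_iso_map z]
    simp
  have hj1' := map_snd_vert (𝒳 := FibCat.overCat U) j1 hj1
  let i₀ : (W₁).obj c ≅ (W₂).obj c :=
    ((W₁).toFunctor.mapIso j1).symm ≪≫ m.obj.iso ≪≫ (W₂).toFunctor.mapIso j2
  have hi₀ : 𝒮.p.map i₀.hom = eqToHom (((W₁).w_obj c).trans ((W₂).w_obj c).symm) := by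
    change 𝒮.p.map ((W₁).map j1.inv ≫ m.obj.iso.hom ≫ (W₂).map j2.hom) = _
    rw [Functor.map_comp, Functor.map_comp, map_w, map_w, fp_iso_map, hj1',
      show (FibCat.overCat U).p.map j2.hom = eqToHom _ from hj2]
    simp
  let φ : w.obj c ≅ (FibCat.diag (FibCat.toSelf 𝒮)).obj ((W₂).obj c) := fpIsoMk i₀ (Iso.refl _) (by
    apply (FibCat.selfOver C).p.map_injective
    rw [Functor.map_comp, Functor.map_comp, fp_iso_map, fp_iso_map, map_w, map_w, hi₀]
    simp [ov_p_map]
    try rfl)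
  refine ⟨fpMk c ((W₂).obj c) ((W₂).w_obj c) φ (hi₀.trans rfl), fp_snd_base z,
    fpIsoMk (fpIsoMk j1.symm j2.symm ?_) (Iso.refl _) ?_, ?_⟩
  · change (W₁).map j1.inv ≫ m.obj.iso.hom = (i₀.hom ≫ (Iso.refl ((W₂).obj c)).inv) ≫ (W₂).map j2.inv
    change _ = (((W₁).map j1.inv ≫ m.obj.iso.hom ≫ (W₂).map j2.hom) ≫ 𝟙 _) ≫ (W₂).map j2.inv
    simp only [Category.assoc, Category.comp_id, Category.id_comp]
    exact (congrArg (fun t => (W₁).map j1.inv ≫ t) ((congrArg (fun t => m.obj.iso.hom ≫ t)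
      ((W₂).toFunctor.mapIso j2).hom_inv_id).trans (Category.comp_id _))).symm
  · have : T.toFunctor.Faithful := faithful_overCat U
    have : (FibCat.fp T T).p.Faithful := faithful_fp
    apply (FibCat.fp T T).p.map_injective
    rw [Functor.map_comp, Functor.map_comp, fp_iso_map, fp_iso_map, map_w, map_w]
    simp [fpIsoMk, fpHomMk, hj1']
  · exact hj1'

theorem isRepresentable1_diag_of_slices [HasBinaryProducts C] [HasPullbacks C]
    (h : ∀ (U : C) (G : FibCat.overCat U ⥤ᵇ 𝒮), FibCat.IsRepresentable1 G) :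
    FibCat.IsRepresentable1 (FibCat.diag (FibCat.toSelf 𝒮)) := by
  intro U w
  obtain ⟨e⟩ := dbl_pts w
  refine rep_of_equiv_left (isEquivOver_dbl w e) ?_
  obtain ⟨V, F, hF⟩ := h U (BasedFunctor.comp w (FibCat.fpSnd _ _)) U (BasedFunctor.comp w (FibCat.fpFst _ _))
  obtain ⟨G, hG, -, -⟩ := isEquivOver_symm hF
  exact rep_fp_precomp hG _ _ (isRepresentable1_diag_overCat U V (BasedFunctor.comp G (pts w)))

end Diag

end Groth.Agent.RepOne
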