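import Groth.Agent.ASt.Calc
/-!
Pasting calculus of 2-fibre products over a base category and representable 1-morphisms.
-/

set_option backward.isDefEq.respectTransparency false
set_option backward.isDefEq.respectTransparency.types false
set_option linter.unusedSectionVars false

universe v₈ u₈ v₇ u₇ v₆ u₆ v₅ u₅ v₄ u₄ v₃ u₃ v₂ u₂ v u

open CategoryTheory CategoryTheory.Limits

namespace Groth.Agent.RepOne

open Groth.Agent.ASt

variable {C : Type u} [Category.{v} C]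

section Iso

variable {𝒳 : BasedCategory.{v₂, u₂} C} {𝒴 : BasedCategory.{v₃, u₃} C} {𝒮 : BasedCategory.{v₄, u₄} C}
variable {F : 𝒳 ⥤ᵇ 𝒮} {G : 𝒴 ⥤ᵇ 𝒮}

/-- Constructor for isomorphisms in a fibre product. -/
def fpIsoMk {m n : (FibCat.fp F G).obj} (a : m.obj.fst ≅ n.obj.fst) (b : m.obj.snd ≅ n.obj.snd)
    (w : F.map a.hom ≫ n.obj.iso.hom = m.obj.iso.hom ≫ G.map b.hom) : m ≅ n where
  hom := fpHomMk a.hom b.hom w
  inv := fpHomMk a.inv b.inv (by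
    have h1 : F.map a.inv ≫ F.map a.hom = 𝟙 _ := by rw [← Functor.map_comp, a.inv_hom_id, CategoryTheory.Functor.map_id]
    have h2 : G.map b.hom ≫ G.map b.inv = 𝟙 _ := by rw [← Functor.map_comp, b.hom_inv_id, CategoryTheory.Functor.map_id]
    calc F.map a.inv ≫ m.obj.iso.hom = F.map a.inv ≫ (m.obj.iso.hom ≫ G.map b.hom) ≫ G.map b.inv := by
          rw [Category.assoc, h2, Category.comp_id]
      _ = n.obj.iso.hom ≫ G.map b.inv := by rw [← w, ← Category.assoc, ← Category.assoc, h1, Category.id_comp])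
  hom_inv_id := fp_hom_ext a.hom_inv_id b.hom_inv_id
  inv_hom_id := fp_hom_ext a.inv_hom_id b.inv_hom_id

theorem map_snd_vert {a : 𝒳.obj} {b : 𝒳.obj} (e : a ≅ b) {h : 𝒳.p.obj a = 𝒳.p.obj b}
    (he : 𝒳.p.map e.hom = eqToHom h) : 𝒳.p.map e.inv = eqToHom h.symm := by
  rw [← cancel_epi (𝒳.p.map e.hom), ← Functor.map_comp, e.hom_inv_id, he]
  simp

end Iso

section Map

variable {X₁ : BasedCategory.{v₂, u₂} C} {Y₁ : BasedCategory.{v₃, u₃} C} {S₁ : BasedCategory.{v₄, u₄} C}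
variable {X₂ : BasedCategory.{v₅, u₅} C} {Y₂ : BasedCategory.{v₆, u₆} C} {S₂ : BasedCategory.{v₇, u₇} C}
variable {F₁ : X₁ ⥤ᵇ S₁} {G₁ : Y₁ ⥤ᵇ S₁} {F₂ : X₂ ⥤ᵇ S₂} {G₂ : Y₂ ⥤ᵇ S₂}
variable (p : X₁ ⥤ᵇ X₂) (q : Y₁ ⥤ᵇ Y₂) (r : S₁ ⥤ᵇ S₂)
variable (α : BasedFunctor.comp F₁ r ≅ BasedFunctor.comp p F₂)
variable (β : BasedFunctor.comp G₁ r ≅ BasedFunctor.comp q G₂)

/-- The functor of fibre products induced by a map of cospans. -/
noncomputable def fpMap : FibCat.fp F₁ G₁ ⥤ᵇ FibCat.fp F₂ G₂ :=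
  FibCat.fpLift (BasedFunctor.comp (FibCat.fpFst F₁ G₁) p) (BasedFunctor.comp (FibCat.fpSnd F₁ G₁) q)
    ((wL (FibCat.fpFst F₁ G₁) α.symm : _) ≪≫ (wR (FibCat.fpIso F₁ G₁) r : _) ≪≫
      (wL (FibCat.fpSnd F₁ G₁) β : _))

theorem fpMap_iso (m : (FibCat.fp F₁ G₁).obj) : ((fpMap p q r α β).obj m).obj.iso.hom =
    α.inv.toNatTrans.app m.obj.fst ≫ r.map m.obj.iso.hom ≫ β.hom.toNatTrans.app m.obj.snd := rfl

theorem isEquivOver_fpMap (hp : FibCat.IsEquivOver p) (hq : FibCat.IsEquivOver q)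
    [r.toFunctor.Full] [r.toFunctor.Faithful] : FibCat.IsEquivOver (fpMap p q r α β) := by
  obtain ⟨p1, p2, p3⟩ := vert_of_isEquivOver hp
  obtain ⟨q1, q2, q3⟩ := vert_of_isEquivOver hq
  have : (fpMap p q r α β).toFunctor.Faithful := ⟨fun {m n f g} h => fp_hom_ext
    (p.toFunctor.map_injective (congrArg (fun k => k.hom.fst) h))
    (q.toFunctor.map_injective (congrArg (fun k => k.hom.snd) h))⟩
  let α₀ := (BasedNatTrans.forgetful _ _).mapIso α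
  let β₀ := (BasedNatTrans.forgetful _ _).mapIso β
  have : (fpMap p q r α β).toFunctor.Full := ⟨fun {m n} h => by
    let a := p.toFunctor.preimage h.hom.fst
    let b := q.toFunctor.preimage h.hom.snd
    refine ⟨fpHomMk a b (r.toFunctor.map_injective ?_), fp_hom_ext (p.toFunctor.map_preimage _) (q.toFunctor.map_preimage _)⟩
    have hw := h.hom.w
    rw [show h.hom.fst = p.map a from (p.toFunctor.map_preimage _).symm,
      show h.hom.snd = q.map b from (q.toFunctor.map_preimage _).symm] at hw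
    rw [Functor.map_comp, Functor.map_comp]
    have nα : r.map (F₁.map a) ≫ α₀.hom.app n.obj.fst = α₀.hom.app m.obj.fst ≫ F₂.map (p.map a) :=
      α₀.hom.naturality a
    have nβ : r.map (G₁.map b) ≫ β₀.hom.app n.obj.snd = β₀.hom.app m.obj.snd ≫ G₂.map (q.map b) :=
      β₀.hom.naturality b
    have hw' : F₂.map (p.map a) ≫ α₀.inv.app n.obj.fst ≫ r.map n.obj.iso.hom ≫ β₀.hom.app n.obj.snd =
        (α₀.inv.app m.obj.fst ≫ r.map m.obj.iso.hom ≫ β₀.hom.app m.obj.snd) ≫ G₂.map (q.map b) := hw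
    rw [← cancel_mono (β₀.hom.app n.obj.snd), Category.assoc, Category.assoc, nβ,
      ← cancel_epi (α₀.inv.app m.obj.fst)]
    simp only [Category.assoc] at hw'
    refine Eq.trans ?_ hw'
    have e1 : r.map (F₁.map a) = α₀.hom.app m.obj.fst ≫ F₂.map (p.map a) ≫ α₀.inv.app n.obj.fst := by
      rw [← Category.assoc, ← nα, Category.assoc, Iso.hom_inv_id_app]
      exact (Category.comp_id _).symm
    rw [e1]
    simp⟩
  refine isEquivOver_of_vert _ fun z => ?_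
  obtain ⟨a, ha, ea, hea⟩ := p3 z.obj.fst
  obtain ⟨b, hb, eb, heb⟩ := q3 z.obj.snd
  let i₀ : r.obj (F₁.obj a) ≅ r.obj (G₁.obj b) :=
    α₀.app a ≪≫ F₂.toFunctor.mapIso ea ≪≫ z.obj.iso ≪≫ (G₂.toFunctor.mapIso eb).symm ≪≫ (β₀.app b).symm
  have hinv := map_snd_vert eb heb
  have hβ : S₂.p.map (β₀.inv.app b) = eqToHom _ := map_app _ _ β.inv b
  have hα : S₂.p.map (α₀.hom.app a) = eqToHom _ := map_app _ _ α.hom a
  have hi : S₁.p.map (r.toFunctor.preimageIso i₀).hom =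
      eqToHom ((F₁.w_obj a).trans (((hb.trans (fp_snd_base z)).trans ha.symm).symm.trans (G₁.w_obj b).symm)) := by
    rw [Functor.preimageIso_hom, map_preimage]
    simp [i₀, map_w, hea, hinv, hα, hβ, fp_iso_map z]
  refine ⟨fpMk a b ((hb.trans (fp_snd_base z)).trans ha.symm) (r.toFunctor.preimageIso i₀) hi, ha,
    fpIsoMk ea eb ?_, ?_⟩
  · change F₂.map ea.hom ≫ z.obj.iso.hom =
      (α₀.inv.app a ≫ r.map (r.toFunctor.preimageIso i₀).hom ≫ β₀.hom.app b) ≫ G₂.map eb.hom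
    simp [i₀]
    refine (congrArg (fun t => F₂.map ea.hom ≫ t) ?_)
    refine ((Category.comp_id _).symm.trans (congrArg (fun t => z.obj.iso.hom ≫ t) ?_))
    exact ((G₂.toFunctor.mapIso eb).inv_hom_id.symm.trans
      (congrArg (fun t => G₂.map eb.inv ≫ t) (Category.id_comp _).symm))
  · exact hea

end Map

section Paste

variable {𝒳 : BasedCategory.{v₂, u₂} C} {𝒴 : BasedCategory.{v₃, u₃} C} {𝒵 : BasedCategory.{v₄, u₄} C}
variable {𝒰 : BasedCategory.{v₅, u₅} C}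

/-- A fibre of a base change is a fibre of the morphism. -/
noncomputable def bcMap (g : 𝒵 ⥤ᵇ 𝒴) (f : 𝒳 ⥤ᵇ 𝒴) (y : 𝒰 ⥤ᵇ 𝒵) :
    FibCat.fp y (FibCat.fpFst g f) ⥤ᵇ FibCat.fp (BasedFunctor.comp y g) f :=
  FibCat.fpLift (FibCat.fpFst y (FibCat.fpFst g f))
    (BasedFunctor.comp (FibCat.fpSnd y (FibCat.fpFst g f)) (FibCat.fpSnd g f))
    (wR (FibCat.fpIso y (FibCat.fpFst g f)) g ≪≫ wL (FibCat.fpSnd y (FibCat.fpFst g f)) (FibCat.fpIso g f))

theorem isEquivOver_bcMap (g : 𝒵 ⥤ᵇ 𝒴) (f : 𝒳 ⥤ᵇ 𝒴) (y : 𝒰 ⥤ᵇ 𝒵) :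
    FibCat.IsEquivOver (bcMap g f y) := by
  have : (bcMap g f y).toFunctor.Faithful := ⟨fun {m n h k} e => by
    have e1 : h.hom.fst = k.hom.fst := congrArg (fun t => t.hom.fst) e
    have e2 : h.hom.snd.hom.snd = k.hom.snd.hom.snd := congrArg (fun t => t.hom.snd) e
    refine fp_hom_ext e1 (fp_hom_ext ?_ e2)
    have w1 : y.map h.hom.fst ≫ n.obj.iso.hom = m.obj.iso.hom ≫ h.hom.snd.hom.fst := h.hom.w
    have w2 : y.map k.hom.fst ≫ n.obj.iso.hom = m.obj.iso.hom ≫ k.hom.snd.hom.fst := k.hom.w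
    rw [e1] at w1
    exact (cancel_epi m.obj.iso.hom).1 (w1.symm.trans w2)⟩
  have : (bcMap g f y).toFunctor.Full := ⟨fun {m n} h => by
    let b : m.obj.snd.obj.fst ⟶ n.obj.snd.obj.fst := m.obj.iso.inv ≫ y.map h.hom.fst ≫ n.obj.iso.hom
    have hw : g.map (y.map h.hom.fst) ≫ g.map n.obj.iso.hom ≫ n.obj.snd.obj.iso.hom =
        (g.map m.obj.iso.hom ≫ m.obj.snd.obj.iso.hom) ≫ f.map h.hom.snd := h.hom.w
    have hb : g.map b ≫ n.obj.snd.obj.iso.hom = m.obj.snd.obj.iso.hom ≫ f.map h.hom.snd := by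
      simp only [b, Functor.map_comp, Category.assoc, hw]
      exact (g.toFunctor.mapIso m.obj.iso).inv_hom_id_assoc _
    refine ⟨fpHomMk h.hom.fst (fpHomMk b h.hom.snd hb) ?_, fp_hom_ext rfl rfl⟩
    change y.map h.hom.fst ≫ n.obj.iso.hom = m.obj.iso.hom ≫ b
    simp [b]⟩
  refine isEquivOver_of_vert _ fun z => ?_
  let w : (FibCat.fp g f).obj := fpMk (y.obj z.obj.fst) z.obj.snd ((fp_snd_base z).trans (y.w_obj _).symm)
    z.obj.iso ((fp_iso_map z).trans rfl)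
  refine ⟨fpMk z.obj.fst w (y.w_obj _) (Iso.refl _) ((𝒵.p.map_id _).trans (by simp)), rfl,
    fpIsoMk (Iso.refl _) (Iso.refl _) ?_, by exact (𝒰.p.map_id _).trans rfl⟩
  change g.map (y.map (𝟙 _)) ≫ z.obj.iso.hom = (g.map (𝟙 _) ≫ z.obj.iso.hom) ≫ f.map (𝟙 _)
  simp

/-- A fibre of the composite from a fibre of the second morphism. -/
noncomputable def compMap (f : 𝒳 ⥤ᵇ 𝒴) (g : 𝒴 ⥤ᵇ 𝒵) (y : 𝒰 ⥤ᵇ 𝒵) :
    FibCat.fp (FibCat.fpSnd y g) f ⥤ᵇ FibCat.fp y (BasedFunctor.comp f g) :=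
  FibCat.fpLift (BasedFunctor.comp (FibCat.fpFst (FibCat.fpSnd y g) f) (FibCat.fpFst y g))
    (FibCat.fpSnd (FibCat.fpSnd y g) f)
    ((wL (FibCat.fpFst (FibCat.fpSnd y g) f) (FibCat.fpIso y g) : _) ≪≫
      (wR (FibCat.fpIso (FibCat.fpSnd y g) f) g : _))

theorem isEquivOver_compMap (f : 𝒳 ⥤ᵇ 𝒴) (g : 𝒴 ⥤ᵇ 𝒵) (y : 𝒰 ⥤ᵇ 𝒵) :
    FibCat.IsEquivOver (compMap f g y) := by
  have : (compMap f g y).toFunctor.Faithful := ⟨fun {m n h k} e => by
    have e1 : h.hom.fst.hom.fst = k.hom.fst.hom.fst := congrArg (fun t => t.hom.fst) e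
    have e2 : h.hom.snd = k.hom.snd := congrArg (fun t => t.hom.snd) e
    refine fp_hom_ext (fp_hom_ext e1 ?_) e2
    have w1 : h.hom.fst.hom.snd ≫ n.obj.iso.hom = m.obj.iso.hom ≫ f.map h.hom.snd := h.hom.w
    have w2 : k.hom.fst.hom.snd ≫ n.obj.iso.hom = m.obj.iso.hom ≫ f.map k.hom.snd := k.hom.w
    rw [e2] at w1
    exact (cancel_mono n.obj.iso.hom).1 (w1.trans w2.symm)⟩
  have : (compMap f g y).toFunctor.Full := ⟨fun {m n} h => by
    let b : m.obj.fst.obj.snd ⟶ n.obj.fst.obj.snd := m.obj.iso.hom ≫ f.map h.hom.snd ≫ n.obj.iso.inv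
    have hw : y.map h.hom.fst ≫ n.obj.fst.obj.iso.hom ≫ g.map n.obj.iso.hom =
        (m.obj.fst.obj.iso.hom ≫ g.map m.obj.iso.hom) ≫ g.map (f.map h.hom.snd) := h.hom.w
    have hb : y.map h.hom.fst ≫ n.obj.fst.obj.iso.hom = m.obj.fst.obj.iso.hom ≫ g.map b := by
      simp only [b, Functor.map_comp, ← Category.assoc]
      rw [← hw]
      simp only [Category.assoc]
      exact (congrArg (fun t => y.map h.hom.fst ≫ t) ((congrArg (fun t => n.obj.fst.obj.iso.hom ≫ t)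
        ((g.toFunctor.mapIso n.obj.iso).hom_inv_id)).trans (Category.comp_id _))).symm
    refine ⟨fpHomMk (fpHomMk h.hom.fst b hb) h.hom.snd ?_, fp_hom_ext rfl rfl⟩
    change b ≫ n.obj.iso.hom = m.obj.iso.hom ≫ f.map h.hom.snd
    simp [b]⟩
  refine isEquivOver_of_vert _ fun z => ?_
  let w : (FibCat.fp y g).obj := fpMk z.obj.fst (f.obj z.obj.snd) ((f.w_obj _).trans (fp_snd_base z))
    z.obj.iso ((fp_iso_map z).trans rfl)
  refine ⟨fpMk w z.obj.snd (fp_snd_base z) (Iso.refl _) ((𝒴.p.map_id _).trans (by simp)), rfl,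
    fpIsoMk (Iso.refl _) (Iso.refl _) ?_, by exact (𝒰.p.map_id _).trans rfl⟩
  change y.map (𝟙 _) ≫ z.obj.iso.hom = (z.obj.iso.hom ≫ g.map (𝟙 _)) ≫ g.map (f.map (𝟙 _))
  simp
  try exact (Category.comp_id _).symm

end Paste

section Rep

variable {𝒳 : BasedCategory.{v₂, u₂} C} {𝒴 : BasedCategory.{v₃, u₃} C} {𝒵 : BasedCategory.{v₄, u₄} C}

theorem rep_of_equiv_left {E : 𝒳 ⥤ᵇ 𝒴} (hE : FibCat.IsEquivOver E) (h : FibCat.IsRepresentable 𝒴) :
    FibCat.IsRepresentable 𝒳 := by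
  obtain ⟨U, F, hF⟩ := h
  exact ⟨U, BasedFunctor.comp E F, isEquivOver_comp hE hF⟩

theorem rep_of_equiv_right {E : 𝒳 ⥤ᵇ 𝒴} (hE : FibCat.IsEquivOver E) (h : FibCat.IsRepresentable 𝒳) :
    FibCat.IsRepresentable 𝒴 := by
  obtain ⟨G, hG, -, -⟩ := isEquivOver_symm hE
  exact rep_of_equiv_left hG h

theorem rep_of_equiv_overCat {U : C} {E : FibCat.overCat U ⥤ᵇ 𝒳} (hE : FibCat.IsEquivOver E) :
    FibCat.IsRepresentable 𝒳 := by
  obtain ⟨G, hG, -, -⟩ := isEquivOver_symm hE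
  exact ⟨U, G, hG⟩

instance full_id : (BasedFunctor.id 𝒳).toFunctor.Full := inferInstanceAs (𝟭 𝒳.obj).Full
instance faithful_id : (BasedFunctor.id 𝒳).toFunctor.Faithful := inferInstanceAs (𝟭 𝒳.obj).Faithful

/-- A morphism `E : 𝒲 ⟶ 𝒰` which is an equivalence does not change fibres. -/
theorem rep_fp_precomp {𝒲 : BasedCategory.{v₆, u₆} C} {𝒰 : BasedCategory.{v₅, u₅} C}
    {E : 𝒲 ⥤ᵇ 𝒰} (hE : FibCat.IsEquivOver E) (h : 𝒰 ⥤ᵇ 𝒴) (f : 𝒳 ⥤ᵇ 𝒴) :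
    FibCat.IsRepresentable (FibCat.fp (BasedFunctor.comp E h) f) → FibCat.IsRepresentable (FibCat.fp h f) :=
  rep_of_equiv_right (isEquivOver_fpMap (F₁ := BasedFunctor.comp E h) (G₁ := f) (F₂ := h) (G₂ := f)
    E (BasedFunctor.id 𝒳) (BasedFunctor.id 𝒴) (Iso.refl _) (Iso.refl _) hE isEquivOver_id)

theorem isRepresentable1_baseChange (f : 𝒳 ⥤ᵇ 𝒴) (g : 𝒵 ⥤ᵇ 𝒴) (hf : FibCat.IsRepresentable1 f) :
    FibCat.IsRepresentable1 (FibCat.fpFst g f) := fun U y =>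
  rep_of_equiv_left (isEquivOver_bcMap g f y) (hf U (BasedFunctor.comp y g))

theorem isRepresentable1_comp (f : 𝒳 ⥤ᵇ 𝒴) (g : 𝒴 ⥤ᵇ 𝒵) (hf : FibCat.IsRepresentable1 f)
    (hg : FibCat.IsRepresentable1 g) : FibCat.IsRepresentable1 (BasedFunctor.comp f g) := fun U y => by
  obtain ⟨V, F, hF⟩ := hg U y
  obtain ⟨G, hG, -, -⟩ := isEquivOver_symm hF
  exact rep_of_equiv_right (isEquivOver_compMap f g y)
    (rep_fp_precomp hG _ f (hf V (BasedFunctor.comp G (FibCat.fpSnd y g))))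

end Rep

section Square

variable {𝒳 : BasedCategory.{v₂, u₂} C} {𝒴 : BasedCategory.{v₃, u₃} C}
variable {𝒳' : BasedCategory.{v₄, u₄} C} {𝒴' : BasedCategory.{v₅, u₅} C}

theorem isRepresentable1_iff_of_equiv (f : 𝒳 ⥤ᵇ 𝒴) (f' : 𝒳' ⥤ᵇ 𝒴') (a : 𝒳' ⥤ᵇ 𝒳) (b : 𝒴' ⥤ᵇ 𝒴)
    (ha : FibCat.IsEquivOver a) (hb : FibCat.IsEquivOver b)
    (e : BasedFunctor.comp f' b ≅ BasedFunctor.comp a f) :
    FibCat.IsRepresentable1 f ↔ FibCat.IsRepresentable1 f' := by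
  obtain ⟨b1, b2, -⟩ := vert_of_isEquivOver hb
  constructor
  · intro h U y
    exact rep_of_equiv_left (isEquivOver_fpMap (F₁ := y) (G₁ := f') (F₂ := BasedFunctor.comp y b) (G₂ := f)
      (BasedFunctor.id _) a b (Iso.refl _) e isEquivOver_id ha) (h U (BasedFunctor.comp y b))
  · intro h U y
    obtain ⟨B, -, -, ⟨β⟩⟩ := isEquivOver_symm hb
    exact rep_of_equiv_right (isEquivOver_fpMap (F₁ := BasedFunctor.comp y B) (G₁ := f') (F₂ := y) (G₂ := f)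
      (BasedFunctor.id _) a b (wL y β) e isEquivOver_id ha) (h U (BasedFunctor.comp y B))

end Square

end Groth.Agent.RepOne
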