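import Groth.Agent.RepOne.Grpd
/-!
Strongly cartesian morphisms and fibred categories over a base.
-/

set_option backward.isDefEq.respectTransparency false
set_option backward.isDefEq.respectTransparency.types false
set_option linter.unusedSectionVars false

universe v₄ u₄ v₃ u₃ v₂ u₂ v u

open CategoryTheory CategoryTheory.Limits

namespace Groth.Agent.RepOne

open Groth.Agent.ASt

variable {C : Type u} [Category.{v} C]
variable {𝒳 : BasedCategory.{v₂, u₂} C} {𝒴 : BasedCategory.{v₃, u₃} C} {𝒮 : BasedCategory.{v₄, u₄} C}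

theorem cart_fac {a b z : 𝒳.obj} {φ : a ⟶ b} (h : 𝒳.p.IsStronglyCartesian (𝒳.p.map φ) φ) (ψ : z ⟶ b)
    (g : 𝒳.p.obj z ⟶ 𝒳.p.obj a) (e : g ≫ 𝒳.p.map φ = 𝒳.p.map ψ) :
    ∃! χ : z ⟶ a, 𝒳.p.map χ = g ∧ χ ≫ φ = ψ := by
  have hψ : 𝒳.p.IsHomLift (g ≫ 𝒳.p.map φ) ψ := by rw [e]; infer_instance
  obtain ⟨χ, ⟨h1, h2⟩, h3⟩ :=
    Functor.IsStronglyCartesian.universal_property' (p := 𝒳.p) (f := 𝒳.p.map φ) (φ := φ) g ψ
  refine ⟨χ, ⟨(IsHomLift.eq_of_isHomLift 𝒳.p g χ).symm, h2⟩, fun χ' hχ' => h3 χ' ⟨?_, hχ'.2⟩⟩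
  rw [← hχ'.1]; infer_instance

theorem cart_ext {a b z : 𝒳.obj} {φ : a ⟶ b} (h : 𝒳.p.IsStronglyCartesian (𝒳.p.map φ) φ) {x y : z ⟶ a}
    (h1 : 𝒳.p.map x = 𝒳.p.map y) (h2 : x ≫ φ = y ≫ φ) : x = y := by
  obtain ⟨χ, -, hu⟩ := cart_fac h (x ≫ φ) (𝒳.p.map x) (𝒳.p.map_comp x φ).symm
  rw [hu x ⟨rfl, rfl⟩, hu y ⟨h1.symm, h2.symm⟩]

theorem cart_mk {a b : 𝒳.obj} {φ : a ⟶ b}
    (h : ∀ {z : 𝒳.obj} (ψ : z ⟶ b) (g : 𝒳.p.obj z ⟶ 𝒳.p.obj a), g ≫ 𝒳.p.map φ = 𝒳.p.map ψ →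
      ∃! χ : z ⟶ a, 𝒳.p.map χ = g ∧ χ ≫ φ = ψ) : 𝒳.p.IsStronglyCartesian (𝒳.p.map φ) φ := by
  refine { universal_property' := fun {z} g ψ hψ => ?_ }
  obtain ⟨χ, ⟨h1, h2⟩, hu⟩ := h ψ g (IsHomLift.eq_of_isHomLift 𝒳.p _ ψ)
  refine ⟨χ, ⟨by rw [← h1]; infer_instance, h2⟩, fun χ' ⟨hl, h3⟩ =>
    hu χ' ⟨(IsHomLift.eq_of_isHomLift 𝒳.p g χ').symm, h3⟩⟩

theorem cart_self {R S : C} {f : R ⟶ S} {a b : 𝒳.obj} {φ : a ⟶ b} (h : 𝒳.p.IsStronglyCartesian f φ) :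
    𝒳.p.IsStronglyCartesian (𝒳.p.map φ) φ := by
  have ha := IsHomLift.domain_eq 𝒳.p f φ
  have hb := IsHomLift.codomain_eq 𝒳.p f φ
  have hf := IsHomLift.fac 𝒳.p f φ
  subst ha hb
  rw [hf] at h
  simpa using h

theorem cart_congr {R S : C} {f : R ⟶ S} {a b : 𝒳.obj} {φ : a ⟶ b}
    (h : 𝒳.p.IsStronglyCartesian (𝒳.p.map φ) φ) (ha : 𝒳.p.obj a = R) (hb : 𝒳.p.obj b = S)
    (e : 𝒳.p.map φ = eqToHom ha ≫ f ≫ eqToHom hb.symm) : 𝒳.p.IsStronglyCartesian f φ := by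
  subst ha hb
  simp at e
  rw [← e]
  exact h

theorem cart_comp {a b c : 𝒳.obj} {φ : a ⟶ b} {ψ : b ⟶ c}
    (h : 𝒳.p.IsStronglyCartesian (𝒳.p.map φ) φ) (h' : 𝒳.p.IsStronglyCartesian (𝒳.p.map ψ) ψ) :
    𝒳.p.IsStronglyCartesian (𝒳.p.map (φ ≫ ψ)) (φ ≫ ψ) := by
  rw [Functor.map_comp]; infer_instance

theorem cart_lift [𝒳.p.IsFibered] (b : 𝒳.obj) {V : C} (f : V ⟶ 𝒳.p.obj b) :
    ∃ (a : 𝒳.obj) (φ : a ⟶ b) (ha : 𝒳.p.obj a = V),
      𝒳.p.IsStronglyCartesian (𝒳.p.map φ) φ ∧ 𝒳.p.map φ = eqToHom ha ≫ f := by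
  refine ⟨_, Functor.IsPreFibered.pullbackMap rfl f, IsHomLift.domain_eq 𝒳.p f (Functor.IsPreFibered.pullbackMap rfl f),
    cart_self (f := f) inferInstance, ?_⟩
  simpa using IsHomLift.fac' 𝒳.p f (Functor.IsPreFibered.pullbackMap rfl f)

theorem isFibered_mk (h : ∀ (b : 𝒳.obj) (V : C) (f : V ⟶ 𝒳.p.obj b),
    ∃ (a : 𝒳.obj) (φ : a ⟶ b) (ha : 𝒳.p.obj a = V),
      𝒳.p.IsStronglyCartesian (𝒳.p.map φ) φ ∧ 𝒳.p.map φ = eqToHom ha ≫ f) : 𝒳.p.IsFibered :=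
  Functor.IsFibered.of_exists_isStronglyCartesian fun b V f => by
    obtain ⟨a, φ, ha, hc, e⟩ := h b V f
    exact ⟨a, φ, cart_congr hc ha rfl (by simp [e])⟩

section Equiv

theorem cart_map_equiv {F : 𝒳 ⥤ᵇ 𝒴} (hF : FibCat.IsEquivOver F) {a b : 𝒳.obj} {φ : a ⟶ b}
    (h : 𝒳.p.IsStronglyCartesian (𝒳.p.map φ) φ) : 𝒴.p.IsStronglyCartesian (𝒴.p.map (F.map φ)) (F.map φ) := by
  obtain ⟨hfull, hfaith, hv⟩ := vert_of_isEquivOver hF
  refine cart_mk fun {z} ψ g e => ?_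
  obtain ⟨z₀, hz, ez, hez⟩ := hv z
  let ψ₀ := F.toFunctor.preimage (ez.hom ≫ ψ)
  let g₀ : 𝒳.p.obj z₀ ⟶ 𝒳.p.obj a := eqToHom hz ≫ g ≫ eqToHom (F.w_obj a)
  have e₀ : g₀ ≫ 𝒳.p.map φ = 𝒳.p.map ψ₀ := by
    rw [map_preimage, Functor.map_comp, hez, ← e, map_w]
    simp [g₀]
  obtain ⟨χ₀, ⟨h1, h2⟩, hu⟩ := cart_fac h ψ₀ g₀ e₀
  have hinv := map_snd_vert ez hez
  refine ⟨ez.inv ≫ F.map χ₀, ⟨by simp [map_w, hinv, h1, g₀], ?_⟩, fun χ' ⟨hχ1, hχ2⟩ => ?_⟩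
  · rw [Category.assoc, ← F.map_comp, h2]
    simp [ψ₀]
  · have : F.toFunctor.preimage (ez.hom ≫ χ') = χ₀ := hu _ ⟨by simp [map_preimage, hez, hχ1, g₀],
      F.toFunctor.map_injective (by simp [ψ₀, hχ2])⟩
    rw [← this]
    simp

theorem isFibered_of_equiv {F : 𝒳 ⥤ᵇ 𝒴} (hF : FibCat.IsEquivOver F) [𝒳.p.IsFibered] : 𝒴.p.IsFibered := by
  obtain ⟨hfull, hfaith, hv⟩ := vert_of_isEquivOver hF
  refine isFibered_mk fun b V f => ?_
  obtain ⟨b₀, hb, e, he⟩ := hv b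
  obtain ⟨a, φ, ha, hc, hφ⟩ := cart_lift b₀ (f ≫ eqToHom hb.symm)
  refine ⟨F.obj a, F.map φ ≫ e.hom, (F.w_obj a).trans ha, cart_comp (cart_map_equiv hF hc) ?_, ?_⟩
  · have : 𝒴.p.IsHomLift (𝒴.p.map e.hom) e.hom := inferInstance
    infer_instance
  · simp [map_w, he, hφ]

end Equiv

section Fp

variable {F : 𝒳 ⥤ᵇ 𝒮} {G : 𝒴 ⥤ᵇ 𝒮}

theorem isFibered_fp [𝒳.p.IsFibered] [𝒴.p.IsFibered]
    (hF : ∀ {a b : 𝒳.obj} (φ : a ⟶ b), 𝒳.p.IsStronglyCartesian (𝒳.p.map φ) φ →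
      𝒮.p.IsStronglyCartesian (𝒮.p.map (F.map φ)) (F.map φ))
    (hG : ∀ {a b : 𝒴.obj} (φ : a ⟶ b), 𝒴.p.IsStronglyCartesian (𝒴.p.map φ) φ →
      𝒮.p.IsStronglyCartesian (𝒮.p.map (G.map φ)) (G.map φ)) :
    (FibCat.fp F G).p.IsFibered := by
  refine isFibered_mk fun x V f => ?_
  have hb := fp_snd_base x
  have hi := fp_iso_map x
  have hi' := map_snd_vert x.obj.iso hi
  obtain ⟨a, φa, ha, hca, ea⟩ := cart_lift x.obj.fst f
  obtain ⟨b, φb, hb', hcb, eb⟩ := cart_lift x.obj.snd (f ≫ eqToHom hb.symm)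
  have hFa := hF φa hca
  have hGb := hG φb hcb
  obtain ⟨i, ⟨hi1, hi2⟩, -⟩ := cart_fac hGb (F.map φa ≫ x.obj.iso.hom)
    (eqToHom ((F.w_obj a).trans (ha.trans (hb'.symm.trans (G.w_obj b).symm))))
    (by simp [map_w, hi, ea, eb])
  obtain ⟨j, ⟨hj1, hj2⟩, -⟩ := cart_fac hFa (G.map φb ≫ x.obj.iso.inv)
    (eqToHom ((F.w_obj a).trans (ha.trans (hb'.symm.trans (G.w_obj b).symm))).symm)
    (by simp [map_w, hi', ea, eb])
  have hij : i ≫ j = 𝟙 _ := cart_ext hFa (by simp [hi1, hj1]) (by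
    rw [Category.assoc, hj2, ← Category.assoc, hi2, Category.assoc, Iso.hom_inv_id, Category.comp_id,
      Category.id_comp])
  have hji : j ≫ i = 𝟙 _ := cart_ext hGb (by simp [hi1, hj1]) (by
    rw [Category.assoc, hi2, ← Category.assoc, hj2, Category.assoc, Iso.inv_hom_id, Category.comp_id,
      Category.id_comp])
  let m : (FibCat.fp F G).obj := fpMk a b (hb'.trans ha.symm) ⟨i, j, hij, hji⟩ hi1
  refine ⟨m, fpHomMk (m := m) (n := x) φa φb hi2.symm, ha, cart_mk fun {z} ψ g e => ?_, ea⟩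
  have e' : g ≫ 𝒳.p.map φa = 𝒳.p.map ψ.hom.fst := e
  obtain ⟨χa, ⟨ha1, ha2⟩, hua⟩ := cart_fac hca ψ.hom.fst g e'
  obtain ⟨χb, ⟨hb1, hb2⟩, hub⟩ := cart_fac hcb ψ.hom.snd
    (eqToHom (fp_snd_base z) ≫ g ≫ eqToHom (ha.trans hb'.symm))
    (by simp [fp_map_snd, ← e', ea, eb])
  have w : F.map χa ≫ i = z.obj.iso.hom ≫ G.map χb := by
    refine cart_ext hGb (by simp [map_w, ha1, hb1, hi1, fp_iso_map z]) ?_
    rw [Category.assoc, hi2, ← Category.assoc, ← F.map_comp, ha2, Category.assoc, ← G.map_comp, hb2]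
    exact ψ.hom.w
  refine ⟨fpHomMk (m := z) (n := m) χa χb w, ⟨ha1, fp_hom_ext ha2 hb2⟩, fun χ ⟨h1, h2⟩ => ?_⟩
  have h1' : 𝒳.p.map χ.hom.fst = g := h1
  refine fp_hom_ext (hua _ ⟨h1', congrArg (fun t => t.hom.fst) h2⟩) (hub _ ⟨?_, congrArg (fun t => t.hom.snd) h2⟩)
  rw [fp_map_snd, h1']

end Fp

section Inertia

variable (F : 𝒳 ⥤ᵇ 𝒴)

theorem map_aut_vert (x : (FibCat.inertia F).obj) : 𝒳.p.map x.aut.hom = 𝟙 _ := by
  rw [map_inj_w F (g := 𝟙 x.pt) (x.map_aut.trans (F.map_id _).symm), CategoryTheory.Functor.map_id]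

theorem isFibered_inertia [𝒳.p.IsFibered]
    (hF : ∀ {a b : 𝒳.obj} (φ : a ⟶ b), 𝒳.p.IsStronglyCartesian (𝒳.p.map φ) φ →
      𝒴.p.IsStronglyCartesian (𝒴.p.map (F.map φ)) (F.map φ)) : (FibCat.inertia F).p.IsFibered := by
  refine isFibered_mk fun x V f => ?_
  have hα := map_aut_vert F x
  have hα' : 𝒳.p.map x.aut.inv = 𝟙 _ := (map_snd_vert x.aut (h := rfl) hα).trans rfl
  obtain ⟨a, φ, ha, hc, ea⟩ := cart_lift x.pt f
  obtain ⟨i, ⟨hi1, hi2⟩, -⟩ := cart_fac hc (φ ≫ x.aut.hom) (𝟙 _) (by simp [hα])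
  obtain ⟨j, ⟨hj1, hj2⟩, -⟩ := cart_fac hc (φ ≫ x.aut.inv) (𝟙 _) (by simp [hα'])
  have hij : i ≫ j = 𝟙 _ := cart_ext hc (by simp [hi1, hj1]) (by
    rw [Category.assoc, hj2, ← Category.assoc, hi2, Category.assoc, Iso.hom_inv_id, Category.comp_id,
      Category.id_comp])
  have hji : j ≫ i = 𝟙 _ := cart_ext hc (by simp [hi1, hj1]) (by
    rw [Category.assoc, hi2, ← Category.assoc, hj2, Category.assoc, Iso.inv_hom_id, Category.comp_id,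
      Category.id_comp])
  have hFi : F.map i = 𝟙 _ := cart_ext (hF φ hc) (by simp [map_w, hi1]) (by
    rw [← F.map_comp, hi2, F.map_comp, x.map_aut, Category.comp_id, Category.id_comp])
  let m : (FibCat.inertia F).obj := ⟨a, ⟨i, j, hij, hji⟩, hFi⟩
  refine ⟨m, (⟨φ, hi2⟩ : FibCat.InertiaObj.Hom m x), ha, cart_mk fun {z} ψ g e => ?_, ea⟩
  obtain ⟨χ, ⟨h1, h2⟩, hu⟩ := cart_fac hc ψ.hom g e
  have hw : z.aut.hom ≫ χ = χ ≫ i := by
    refine cart_ext hc (by simp [h1, hi1, map_aut_vert F z]) ?_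
    rw [Category.assoc, h2, ψ.comm, Category.assoc, hi2, ← Category.assoc, h2]
  exact ⟨⟨χ, hw⟩, ⟨h1, FibCat.InertiaObj.hom_ext h2⟩, fun χ' ⟨h3, h4⟩ =>
    FibCat.InertiaObj.hom_ext (hu χ'.hom ⟨h3, congrArg (fun t => t.hom) h4⟩)⟩

theorem exists_inertia_equiv : ∃ E : FibCat.inertia F ⥤ᵇ FibCat.fp (FibCat.diag F) (FibCat.diag F),
      FibCat.IsEquivOver E ∧ BasedFunctor.comp E (FibCat.fpFst _ _) = FibCat.inertiaToBase F ∧
        BasedFunctor.comp E (FibCat.fpSnd _ _) = FibCat.inertiaToBase F := by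
  let e : BasedFunctor.comp (FibCat.inertiaToBase F) (FibCat.diag F) ≅
      BasedFunctor.comp (FibCat.inertiaToBase F) (FibCat.diag F) :=
    BasedNatIso.mkNatIso (NatIso.ofComponents (fun x => fpIsoMk x.aut (Iso.refl _) (by
      change F.map x.aut.hom ≫ 𝟙 _ = 𝟙 _ ≫ F.map (𝟙 x.pt)
      rw [x.map_aut, F.map_id]
      ))
      (fun {x y} m => fp_hom_ext m.comm.symm
        ((Category.comp_id _).trans (Category.id_comp _).symm)))
      (fun x => isHomLift_id_of_map _ rfl (e := rfl) (map_aut_vert F x))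
  let E := FibCat.fpLift (FibCat.inertiaToBase F) (FibCat.inertiaToBase F) e
  refine ⟨E, ?_, basedFunctor_ext rfl, basedFunctor_ext rfl⟩
  have : E.toFunctor.Faithful := ⟨fun h => FibCat.InertiaObj.hom_ext (congrArg (fun t => t.hom.fst) h :)⟩
  have : E.toFunctor.Full := ⟨fun {x y} h => by
    have w1 : h.hom.fst ≫ y.aut.hom = x.aut.hom ≫ h.hom.snd := congrArg (fun t => t.hom.fst) h.hom.w
    have w2 : h.hom.fst ≫ 𝟙 y.pt = 𝟙 x.pt ≫ h.hom.snd := congrArg (fun t => t.hom.snd) h.hom.w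
    have w3 : h.hom.fst = h.hom.snd := (Category.comp_id _).symm.trans (w2.trans (Category.id_comp _))
    refine ⟨⟨h.hom.fst, ?_⟩, fp_hom_ext rfl w3⟩
    exact (congrArg (fun t => x.aut.hom ≫ t) w3).trans w1.symm⟩
  refine isEquivOver_of_vert E fun z => ?_
  let j1 : z.obj.fst ≅ z.obj.snd := (FibCat.fpFst F F).toFunctor.mapIso z.obj.iso
  let j2 : z.obj.fst ≅ z.obj.snd := (FibCat.fpSnd F F).toFunctor.mapIso z.obj.iso
  have hj : F.map j1.hom = F.map j2.hom :=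
    (Category.comp_id _).symm.trans (z.obj.iso.hom.hom.w.trans (Category.id_comp _))
  let X : (FibCat.inertia F).obj := ⟨z.obj.fst, j1 ≪≫ j2.symm, by
    rw [Iso.trans_hom, F.map_comp, hj, ← F.map_comp, Iso.symm_hom, Iso.hom_inv_id, F.map_id]⟩
  refine ⟨X, rfl, fpIsoMk (Iso.refl _) j2 (fp_hom_ext ?_ ?_), (𝒳.p.map_id _).trans rfl⟩
  · change 𝟙 _ ≫ j1.hom = (j1.hom ≫ j2.inv) ≫ j2.hom
    simp
  · change 𝟙 _ ≫ j2.hom = 𝟙 _ ≫ j2.hom
    rfl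

end Inertia

section Eval

variable [𝒳.p.IsFibered] {U : C}

theorem toTop_map (y : FibCat.overCat U ⥤ᵇ 𝒳) (g : (FibCat.overCat U).obj) :
    𝒳.p.map (y.map (toTop g)) = eqToHom (y.w_obj g) ≫ g.hom ≫ eqToHom (y.w_obj (ov (𝟙 U))).symm :=
  map_w y (toTop g)

theorem cart_toTop {H : FibCat.overCat U ⥤ᵇ 𝒳} (hH : FibCat.PreservesStronglyCartesian H)
    (g : (FibCat.overCat U).obj) :
    𝒳.p.IsStronglyCartesian (𝒳.p.map (H.map (toTop g))) (H.map (toTop g)) :=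
  cart_self (hH _ (toTop g) ((isFibGrpd_overCat U).isStronglyCartesian _))

theorem isEquivalence_evalAtId_cart (U : C) :
    (ObjectProperty.ι (FibCat.PreservesStronglyCartesian (𝒳 := FibCat.overCat U) (𝒴 := 𝒳)) ⋙
      FibCat.evalAtId 𝒳 U).IsEquivalence := by
  let P : ObjectProperty (FibCat.overCat U ⥤ᵇ 𝒳) := FibCat.PreservesStronglyCartesian
  have : (P.ι ⋙ FibCat.evalAtId 𝒳 U).Faithful := ⟨fun {G H α β} e => by
    have e' : α.hom.toNatTrans.app (ov (𝟙 U)) = β.hom.toNatTrans.app (ov (𝟙 U)) := congrArg Subtype.val e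
    refine ObjectProperty.hom_ext _ (BasedNatTrans.ext _ _ (NatTrans.ext (funext fun g =>
      cart_ext (cart_toTop H.property g) ?_ ?_)))
    · rw [map_app, map_app]
    · rw [← α.hom.toNatTrans.naturality, ← β.hom.toNatTrans.naturality, e']⟩
  have : (P.ι ⋙ FibCat.evalAtId 𝒳 U).Full := ⟨fun {G H} a => by
    have ha : 𝒳.p.map a.1 = eqToHom ((G.obj.w_obj _).trans (H.obj.w_obj _).symm) := fiber_map a
    have hex : ∀ g, ∃ χ : G.obj.obj g ⟶ H.obj.obj g,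
        𝒳.p.map χ = eqToHom ((G.obj.w_obj g).trans (H.obj.w_obj g).symm) ∧
          χ ≫ H.obj.map (toTop g) = G.obj.map (toTop g) ≫ a.1 := fun g => by
      obtain ⟨χ, hχ, -⟩ := cart_fac (cart_toTop H.property g) (G.obj.map (toTop g) ≫ a.1)
        (eqToHom ((G.obj.w_obj g).trans (H.obj.w_obj g).symm)) (by simp [toTop_map, ha])
      exact ⟨χ, hχ⟩
    choose χ hχ1 hχ2 using hex
    let η : G.obj ⟶ H.obj :=
      { app := χ
        naturality := fun g h m => by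
          refine cart_ext (cart_toTop H.property h) (by simp [hχ1, map_w]) ?_
          have hm : m ≫ toTop h = toTop g := Over.OverMorphism.ext (Over.w m)
          rw [Category.assoc, hχ2, Category.assoc, ← H.obj.map_comp, hm, hχ2, ← Category.assoc,
            ← G.obj.map_comp, hm]
        isHomLift' := fun g => isHomLift_id_of_map _ (G.obj.w_obj g) (hχ1 g) }
    refine ⟨ObjectProperty.homMk η, Subtype.ext ?_⟩
    have h1 := hχ2 (ov (𝟙 U))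
    have e : toTop (ov (𝟙 U)) = 𝟙 _ := Over.OverMorphism.ext rfl
    rw [e, H.obj.map_id, G.obj.map_id, Category.comp_id, Category.id_comp] at h1
    exact h1⟩
  have : (P.ι ⋙ FibCat.evalAtId 𝒳 U).EssSurj := ⟨fun x => by
    have hex : ∀ g : (FibCat.overCat U).obj, ∃ (a : 𝒳.obj) (φ : a ⟶ x.1) (ha : 𝒳.p.obj a = g.left),
        𝒳.p.IsStronglyCartesian (𝒳.p.map φ) φ ∧ 𝒳.p.map φ = eqToHom ha ≫ g.hom ≫ eqToHom x.2.symm := by
      intro g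
      exact cart_lift x.1 (g.hom ≫ eqToHom x.2.symm)
    choose o φ ho hc hφ using hex
    have hex2 : ∀ {g h : (FibCat.overCat U).obj} (m : g ⟶ h), ∃ χ : o g ⟶ o h,
        𝒳.p.map χ = eqToHom (ho g) ≫ m.left ≫ eqToHom (ho h).symm ∧ χ ≫ φ h = φ g := fun {g h} m => by
      obtain ⟨χ, hχ, -⟩ := cart_fac (hc h) (φ g) (eqToHom (ho g) ≫ m.left ≫ eqToHom (ho h).symm)
        (by rw [hφ g, hφ h, ← Over.w m]; simp)
      exact ⟨χ, hχ⟩
    choose mp hm1 hm2 using @hex2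
    let S : FibCat.overCat U ⥤ᵇ 𝒳 :=
      { toFunctor :=
          { obj := o
            map := mp
            map_id := fun g => cart_ext (hc g) (by simp [hm1]) (by rw [hm2, Category.id_comp])
            map_comp := fun {g h k} m n => cart_ext (hc k)
              (by simp [hm1]) (by rw [hm2, Category.assoc, hm2, hm2]) }
        w := CategoryTheory.Functor.ext ho fun g h m => hm1 m }
    have hS : P S := fun R T f g h m hm => by
      have hc' : 𝒳.p.IsStronglyCartesian (𝒳.p.map (mp m)) (mp m) := by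
        have := hc g; have := hc h
        have : 𝒳.p.IsStronglyCartesian (𝒳.p.map (mp m) ≫ 𝒳.p.map (φ h)) (mp m ≫ φ h) := by
          rw [← Functor.map_comp, hm2]; infer_instance
        exact Functor.IsStronglyCartesian.of_comp (p := 𝒳.p) (g := 𝒳.p.map (φ h)) (ψ := φ h)
      refine cart_congr hc' ((ho g).trans (IsHomLift.domain_eq (FibCat.overCat U).p f m))
        ((ho h).trans (IsHomLift.codomain_eq (FibCat.overCat U).p f m)) ?_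
      have hf := IsHomLift.fac' (FibCat.overCat U).p f m
      have hf' : m.left = _ := hf
      simp [S, hm1, hf']
    let g₀ := ov (𝟙 U)
    have hφ₀ : 𝒳.p.map (φ g₀) = eqToHom ((ho g₀).trans x.2.symm) := by
      rw [hφ]; simp [g₀]
    have := hc g₀
    have : IsIso (𝒳.p.map (φ g₀)) := by rw [hφ₀]; infer_instance
    have : IsIso (φ g₀) := Functor.IsStronglyCartesian.isIso_of_base_isIso 𝒳.p (𝒳.p.map (φ g₀)) _
    refine ⟨⟨S, hS⟩, ⟨{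
      hom := vertHom (ho g₀) x.2 (φ g₀) hφ₀
      inv := vertHom x.2 (ho g₀) (inv (φ g₀)) (by simp [hφ₀])
      hom_inv_id := Subtype.ext (IsIso.hom_inv_id (φ g₀))
      inv_hom_id := Subtype.ext (IsIso.inv_hom_id (φ g₀)) }⟩⟩⟩
  exact { }

end Eval

end Groth.Agent.RepOne
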