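import Groth.Agent.RepOne.Cart
import Mathlib.CategoryTheory.Sites.InducedTopology
import Mathlib.CategoryTheory.Sites.Over
/-!
The inherited topology on a category fibred in groupoids: a sieve covers iff its image covers.
-/

set_option backward.isDefEq.respectTransparency false
set_option backward.isDefEq.respectTransparency.types false

universe v₂ u₂ v u

open CategoryTheory

namespace Groth.Agent.RepOne

variable {C : Type u} [Category.{v} C] {𝒳 : Type u₂} [Category.{v₂} 𝒳] {p : 𝒳 ⥤ C}

theorem exists_fac_grpd (hp : FibCat.IsFibGrpd p) {y x z : 𝒳} (φ : y ⟶ x) (ψ : z ⟶ x)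
    (g : p.obj z ⟶ p.obj y) (e : g ≫ p.map φ = p.map ψ) : ∃! χ : z ⟶ y, p.map χ = g ∧ χ ≫ φ = ψ := by
  have : FibCat.IsFibGrpd (BasedCategory.ofFunctor p).p := hp
  exact Groth.Agent.ASt.existsUnique_fac (𝒳 := BasedCategory.ofFunctor p) φ ψ g e

theorem exists_lift_map (hp : FibCat.IsFibGrpd p) (x : 𝒳) {V : C} (f : V ⟶ p.obj x) :
    ∃ (a : 𝒳) (φ : a ⟶ x) (ha : p.obj a = V), p.map φ = eqToHom ha ≫ f := by
  obtain ⟨a, φ, h⟩ := hp.exists_lift f
  exact ⟨a, φ, IsHomLift.domain_eq p f φ, by simpa using IsHomLift.fac' p f φ⟩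

theorem pullback_functorPushforward (hp : FibCat.IsFibGrpd p) {x y : 𝒳} (φ : y ⟶ x) (S : Sieve x) :
    (S.functorPushforward p).pullback (p.map φ) ≤ (S.pullback φ).functorPushforward p := by
  intro W g hg
  obtain ⟨s, σ, h, hσ, e⟩ := hg
  obtain ⟨z, χ, hz, eχ⟩ := exists_lift_map hp y g
  obtain ⟨ξ, ⟨-, hξ⟩, -⟩ := exists_fac_grpd hp σ (χ ≫ φ) (eqToHom hz ≫ h)
    (by rw [Category.assoc, ← e, Functor.map_comp, eχ, Category.assoc])
  refine ⟨z, χ, eqToHom hz.symm, ?_, by simp [eχ]⟩
  show S (χ ≫ φ)
  rw [← hξ]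
  exact S.downward_closed hσ ξ

/-- The topology of sieves whose image covers. -/
def pushTopology (hp : FibCat.IsFibGrpd p) (J : GrothendieckTopology C) : GrothendieckTopology 𝒳 where
  sieves x := {S | S.functorPushforward p ∈ J (p.obj x)}
  top_mem' x := by
    show (⊤ : Sieve x).functorPushforward p ∈ J (p.obj x)
    rw [Sieve.functorPushforward_top]
    exact J.top_mem _
  pullback_stable' x y S φ hS :=
    J.superset_covering (pullback_functorPushforward hp φ S) (J.pullback_stable _ hS)
  transitive' x S hS R hR := by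
    refine J.transitive hS _ fun W g hg => ?_
    obtain ⟨z, σ, h, hσ, rfl⟩ := hg
    rw [Sieve.pullback_comp]
    exact J.pullback_stable h (J.superset_covering (Sieve.functorPushforward_pullback_le p σ R) (hR hσ))

theorem mem_restrictedTopology_iff (hp : FibCat.IsFibGrpd p) (J : GrothendieckTopology C) {x : 𝒳} (S : Sieve x) :
    S ∈ p.restrictedTopology J x ↔ S.functorPushforward p ∈ J (p.obj x) := by
  refine ⟨fun h => ?_, fun h => Functor.mem_restrictedTopology_of_functorPushforward_mem h⟩
  have hle : p.restrictedTopology J ≤ pushTopology hp J := by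
    rw [Functor.restrictedTopology, Precoverage.toGrothendieck_le_iff_le_toPrecoverage]
    intro y R hR
    rw [GrothendieckTopology.mem_toPrecoverage_iff]
    show (Sieve.generate R).functorPushforward p ∈ J (p.obj y)
    rw [← Sieve.generate_map_eq_functorPushforward]
    exact hR
  exact hle x h

end Groth.Agent.RepOne
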