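import Groth.Agent.RepOne.Desc
import Groth.Agent.RepOne.Restricted
import Mathlib.CategoryTheory.Limits.Preserves.Shapes.Pullbacks
import Mathlib.CategoryTheory.Limits.Shapes.Pullback.Categorical.Basic
import Mathlib.CategoryTheory.Limits.Shapes.Pullback.IsPullback.Basic
import Mathlib.CategoryTheory.Sites.CoverPreserving
/-!
Descent for the 2-fibre product `C ×_D 𝒮` along a functor preserving pullbacks and covers.
-/

set_option backward.isDefEq.respectTransparency false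
set_option backward.isDefEq.respectTransparency.types false
set_option linter.unusedSectionVars false

universe v₃ u₃ v₂ u₂ v u

open CategoryTheory CategoryTheory.Limits

namespace Groth.Agent.RepOne

open Groth.Agent.ASt

variable {C : Type u} [Category.{v} C] {D : Type u₂} [Category.{v₂} D] (u : C ⥤ D)
  (𝒮 : BasedCategory.{v₃, u₃} D)

/-- The 2-fibre product as a category over `C`. -/
abbrev baseCh : BasedCategory C := BasedCategory.ofFunctor (CategoricalPullback.π₁ u 𝒮.p)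

/-- Objects of the 2-fibre product. -/
abbrev bcMk (V : C) (y : 𝒮.obj) (i : u.obj V ≅ 𝒮.p.obj y) : (baseCh u 𝒮).obj := ⟨V, y, i⟩

variable {u 𝒮}

theorem bc_hom_ext {a b : (baseCh u 𝒮).obj} {m n : a ⟶ b} (h₁ : m.fst = n.fst) (h₂ : m.snd = n.snd) : m = n :=
  CategoricalPullback.hom_ext h₁ h₂

theorem isFibGrpd_baseCh [h𝒮 : FibCat.IsFibGrpd 𝒮.p] : FibCat.IsFibGrpd (baseCh u 𝒮).p := by
  refine ⟨fun {b V} f => ?_, fun {a b} φ => ?_⟩
  · obtain ⟨y, ψ, hy, e⟩ := exists_lift_map h𝒮 b.snd (u.map f ≫ b.iso.hom)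
    let m : bcMk u 𝒮 V y (eqToIso hy.symm) ⟶ b := { fst := f, snd := ψ, w := by simp [e] }
    exact ⟨_, m, IsHomLift.map (baseCh u 𝒮).p m⟩
  · refine { universal_property' := fun {z} g ψ hψ => ?_ }
    have e : g ≫ φ.fst = ψ.fst := IsHomLift.eq_of_isHomLift (baseCh u 𝒮).p (g ≫ (baseCh u 𝒮).p.map φ) ψ
    have e2 : (z.iso.inv ≫ u.map g ≫ a.iso.hom) ≫ 𝒮.p.map φ.snd = 𝒮.p.map ψ.snd := by
      have h1 := ψ.w
      have h2 := φ.w
      rw [Category.assoc, Category.assoc, ← h2, Iso.inv_comp_eq, ← h1, ← e, u.map_comp]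
      exact (Category.assoc _ _ _).symm
    obtain ⟨χ, ⟨h1, h2⟩, hu⟩ := existsUnique_fac φ.snd ψ.snd _ e2
    let c : z ⟶ a := { fst := g, snd := χ, w := by simp [h1] }
    refine ⟨c, ⟨IsHomLift.map (baseCh u 𝒮).p c, bc_hom_ext e h2⟩, fun c' ⟨hl, hc⟩ => ?_⟩
    have hf : c'.fst = g := (IsHomLift.eq_of_isHomLift (baseCh u 𝒮).p g c').symm
    refine bc_hom_ext hf (hu c'.snd ⟨?_, congrArg (fun k => k.snd) hc⟩)
    rw [← hf, c'.w, Iso.inv_hom_id_assoc]

variable [h𝒮 : FibCat.IsFibGrpd 𝒮.p] {U : C} {R : Sieve U} (Δ : Stk.sieveCat R ⥤ᵇ baseCh u 𝒮)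

/-- The identification of the base of the second component. -/
noncomputable def bIso (s : (Stk.sieveCat R).obj) : u.obj s.obj.left ≅ 𝒮.p.obj (Δ.obj s).snd :=
  eqToIso (congrArg u.obj (Δ.w_obj s).symm) ≪≫ (Δ.obj s).iso

theorem bIso_nat {r s : (Stk.sieveCat R).obj} (k : r ⟶ s) :
    u.map k.hom.left ≫ (bIso Δ s).hom = (bIso Δ r).hom ≫ 𝒮.p.map (Δ.map k).snd := by
  have h1 := (Δ.map k).w
  have h2 : (Δ.map k).fst = eqToHom (Δ.w_obj r) ≫ k.hom.left ≫ eqToHom (Δ.w_obj s).symm := map_w Δ k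
  rw [h2] at h1
  simp only [Functor.map_comp, eqToHom_map, Category.assoc] at h1
  simp only [bIso, Iso.trans_hom, eqToIso.hom, Category.assoc]
  rw [← h1, eqToHom_trans_assoc, eqToHom_refl, Category.id_comp]

/-- The arrow of `D` under a morphism into a value of the datum. -/
noncomputable def under {w : 𝒮.obj} {s : (Stk.sieveCat R).obj} (α : w ⟶ (Δ.obj s).snd) :
    𝒮.p.obj w ⟶ u.obj s.obj.left :=
  𝒮.p.map α ≫ (bIso Δ s).inv

theorem map_eq_under {w : 𝒮.obj} {s : (Stk.sieveCat R).obj} (α : w ⟶ (Δ.obj s).snd) :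
    𝒮.p.map α = under Δ α ≫ (bIso Δ s).hom := by simp [under]

theorem under_comp {w : 𝒮.obj} {r s : (Stk.sieveCat R).obj} (γ : w ⟶ (Δ.obj r).snd) (k : r ⟶ s) :
    under Δ (γ ≫ (Δ.map k).snd) = under Δ γ ≫ u.map k.hom.left := by
  rw [← cancel_mono (bIso Δ s).hom, ← map_eq_under, Category.assoc, bIso_nat, ← Category.assoc, ← map_eq_under,
    Functor.map_comp]

theorem under_pre {w' w : 𝒮.obj} {s : (Stk.sieveCat R).obj} (e : w' ⟶ w) (α : w ⟶ (Δ.obj s).snd) :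
    under Δ (e ≫ α) = 𝒮.p.map e ≫ under Δ α := by
  simp [under]

/-- Morphisms into values of a datum agreeing on a common refinement. -/
def Rel {w : 𝒮.obj} {s t : (Stk.sieveCat R).obj} (α : w ⟶ (Δ.obj s).snd) (β : w ⟶ (Δ.obj t).snd) : Prop :=
  ∃ (r : (Stk.sieveCat R).obj) (k₁ : r ⟶ s) (k₂ : r ⟶ t) (γ : w ⟶ (Δ.obj r).snd),
    γ ≫ (Δ.map k₁).snd = α ∧ γ ≫ (Δ.map k₂).snd = β

variable {Δ}

theorem comp_map_snd {w : 𝒮.obj} {r s t : (Stk.sieveCat R).obj} (γ : w ⟶ (Δ.obj r).snd) (a : r ⟶ s) (b : s ⟶ t) :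
    γ ≫ (Δ.map (a ≫ b)).snd = (γ ≫ (Δ.map a).snd) ≫ (Δ.map b).snd := by
  rw [Category.assoc]
  exact congrArg (fun k => γ ≫ k.snd) (Δ.toFunctor.map_comp a b)

theorem comp_id_snd {w : 𝒮.obj} {s : (Stk.sieveCat R).obj} (γ : w ⟶ (Δ.obj s).snd) :
    γ ≫ (Δ.map (𝟙 s)).snd = γ :=
  (congrArg (fun k => γ ≫ k.snd) (Δ.toFunctor.map_id s)).trans (Category.comp_id _)

theorem rel_refl {w : 𝒮.obj} {s : (Stk.sieveCat R).obj} (α : w ⟶ (Δ.obj s).snd) : Rel Δ α α :=
  ⟨s, 𝟙 s, 𝟙 s, α, comp_id_snd α, comp_id_snd α⟩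

theorem rel_post {w : 𝒮.obj} {r s : (Stk.sieveCat R).obj} (γ : w ⟶ (Δ.obj r).snd) (k : r ⟶ s) :
    Rel Δ γ (γ ≫ (Δ.map k).snd) :=
  ⟨r, 𝟙 r, k, γ, comp_id_snd γ, rfl⟩

theorem rel_symm {w : 𝒮.obj} {s t : (Stk.sieveCat R).obj} {α : w ⟶ (Δ.obj s).snd} {β : w ⟶ (Δ.obj t).snd}
    (h : Rel Δ α β) : Rel Δ β α :=
  let ⟨r, k₁, k₂, γ, h1, h2⟩ := h; ⟨r, k₂, k₁, γ, h2, h1⟩

theorem rel_pre {w' w : 𝒮.obj} (e : w' ⟶ w) {s t : (Stk.sieveCat R).obj} {α : w ⟶ (Δ.obj s).snd}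
    {β : w ⟶ (Δ.obj t).snd} (h : Rel Δ α β) : Rel Δ (e ≫ α) (e ≫ β) := by
  obtain ⟨r, k₁, k₂, γ, rfl, rfl⟩ := h
  exact ⟨r, k₁, k₂, e ≫ γ, Category.assoc _ _ _, Category.assoc _ _ _⟩

theorem rel_img {w : 𝒮.obj} {s t : (Stk.sieveCat R).obj} {α : w ⟶ (Δ.obj s).snd} {β : w ⟶ (Δ.obj t).snd}
    (h : Rel Δ α β) : under Δ α ≫ u.map s.obj.hom = under Δ β ≫ u.map t.obj.hom := by
  obtain ⟨r, k₁, k₂, γ, rfl, rfl⟩ := h
  rw [under_comp, under_comp, Category.assoc, Category.assoc, ← u.map_comp, ← u.map_comp, Over.w k₁.hom,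
    Over.w k₂.hom]

theorem rel_cone {w : 𝒮.obj} {s t : (Stk.sieveCat R).obj} {α : w ⟶ (Δ.obj s).snd} {β : w ⟶ (Δ.obj t).snd}
    (h : Rel Δ α β) (c : SCone Δ) : α ≫ (c.ι s).snd = β ≫ (c.ι t).snd := by
  obtain ⟨r, k₁, k₂, γ, rfl, rfl⟩ := h
  rw [Category.assoc, Category.assoc]
  exact congrArg (γ ≫ ·) ((congrArg (fun k => k.snd) (c.nat k₁)).trans (congrArg (fun k => k.snd) (c.nat k₂)).symm)

variable [HasPullbacks C] [PreservesLimitsOfShape WalkingCospan u]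

/-- The product of two members of the sieve over `U`. -/
noncomputable def meet (s t : (Stk.sieveCat R).obj) : (Stk.sieveCat R).obj :=
  ⟨Over.mk (pullback.fst s.obj.hom t.obj.hom ≫ s.obj.hom), R.downward_closed s.property _⟩

/-- The first projection. -/
noncomputable def meetFst (s t : (Stk.sieveCat R).obj) : meet s t ⟶ s :=
  ObjectProperty.homMk (Over.homMk (pullback.fst s.obj.hom t.obj.hom) rfl)

/-- The second projection. -/
noncomputable def meetSnd (s t : (Stk.sieveCat R).obj) : meet s t ⟶ t :=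
  ObjectProperty.homMk (Over.homMk (pullback.snd s.obj.hom t.obj.hom) pullback.condition.symm)

/-- The morphism into the product. -/
noncomputable def meetLift {r s t : (Stk.sieveCat R).obj} (k₁ : r ⟶ s) (k₂ : r ⟶ t) : r ⟶ meet s t :=
  ObjectProperty.homMk (Over.homMk
    (pullback.lift k₁.hom.left k₂.hom.left ((Over.w k₁.hom).trans (Over.w k₂.hom).symm))
    ((Category.assoc _ _ _).symm.trans ((congrArg (· ≫ s.obj.hom) (pullback.lift_fst _ _ _)).trans (Over.w k₁.hom))))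

theorem meetLift_fst {r s t : (Stk.sieveCat R).obj} (k₁ : r ⟶ s) (k₂ : r ⟶ t) :
    meetLift k₁ k₂ ≫ meetFst s t = k₁ :=
  sieve_hom_ext (pullback.lift_fst _ _ _)

theorem meetLift_snd {r s t : (Stk.sieveCat R).obj} (k₁ : r ⟶ s) (k₂ : r ⟶ t) :
    meetLift k₁ k₂ ≫ meetSnd s t = k₂ :=
  sieve_hom_ext (pullback.lift_snd _ _ _)

theorem exists_under {w : 𝒮.obj} {s r : (Stk.sieveCat R).obj} (k : r ⟶ s) (α : w ⟶ (Δ.obj s).snd)
    (h : 𝒮.p.obj w ⟶ u.obj r.obj.left) (e : h ≫ u.map k.hom.left = under Δ α) :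
    ∃ γ : w ⟶ (Δ.obj r).snd, under Δ γ = h ∧ γ ≫ (Δ.map k).snd = α := by
  obtain ⟨γ, ⟨h1, h2⟩, -⟩ := existsUnique_fac (Δ.map k).snd α (h ≫ (bIso Δ r).hom) (by
    rw [Category.assoc, ← bIso_nat, ← Category.assoc, e, ← map_eq_under])
  exact ⟨γ, by simp [under, h1], h2⟩

theorem under_ext {w : 𝒮.obj} {r s : (Stk.sieveCat R).obj} (k : r ⟶ s) {γ γ' : w ⟶ (Δ.obj r).snd}
    (h : under Δ γ = under Δ γ') (h' : γ ≫ (Δ.map k).snd = γ' ≫ (Δ.map k).snd) : γ = γ' :=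
  hom_ext _ (by rw [map_eq_under Δ γ, map_eq_under Δ γ', h]) h'

theorem isPullback_meet (s t : (Stk.sieveCat R).obj) :
    IsPullback (u.map (meetFst s t).hom.left) (u.map (meetSnd s t).hom.left) (u.map s.obj.hom) (u.map t.obj.hom) :=
  u.map_isPullback (IsPullback.of_hasPullback s.obj.hom t.obj.hom)

theorem rel_exists {w : 𝒮.obj} {s t : (Stk.sieveCat R).obj} (α : w ⟶ (Δ.obj s).snd)
    (h : 𝒮.p.obj w ⟶ u.obj t.obj.left) (e : h ≫ u.map t.obj.hom = under Δ α ≫ u.map s.obj.hom) :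
    ∃ β : w ⟶ (Δ.obj t).snd, under Δ β = h ∧ Rel Δ α β := by
  obtain ⟨γ, hγ, hγ'⟩ := exists_under (meetFst s t) α ((isPullback_meet s t).lift (under Δ α) h e.symm)
    ((isPullback_meet s t).lift_fst _ _ _)
  refine ⟨γ ≫ (Δ.map (meetSnd s t)).snd, ?_, ⟨_, meetFst s t, meetSnd s t, γ, hγ', rfl⟩⟩
  rw [under_comp, hγ]
  exact (isPullback_meet s t).lift_snd _ _ _

theorem rel_unique {w : 𝒮.obj} {s t : (Stk.sieveCat R).obj} {α : w ⟶ (Δ.obj s).snd} {β β' : w ⟶ (Δ.obj t).snd}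
    (h : Rel Δ α β) (h' : Rel Δ α β') (e : under Δ β = under Δ β') : β = β' := by
  obtain ⟨r, k₁, k₂, γ, h1, h2⟩ := h
  obtain ⟨r', k₁', k₂', γ', h1', h2'⟩ := h'
  have a1 : (γ ≫ (Δ.map (meetLift k₁ k₂)).snd) ≫ (Δ.map (meetFst s t)).snd = α := by
    rw [← comp_map_snd, meetLift_fst, h1]
  have a2 : (γ ≫ (Δ.map (meetLift k₁ k₂)).snd) ≫ (Δ.map (meetSnd s t)).snd = β := by
    rw [← comp_map_snd, meetLift_snd, h2]
  have b1 : (γ' ≫ (Δ.map (meetLift k₁' k₂')).snd) ≫ (Δ.map (meetFst s t)).snd = α := by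
    rw [← comp_map_snd, meetLift_fst, h1']
  have b2 : (γ' ≫ (Δ.map (meetLift k₁' k₂')).snd) ≫ (Δ.map (meetSnd s t)).snd = β' := by
    rw [← comp_map_snd, meetLift_snd, h2']
  have c : γ ≫ (Δ.map (meetLift k₁ k₂)).snd = γ' ≫ (Δ.map (meetLift k₁' k₂')).snd := by
    refine under_ext (meetFst s t) ((isPullback_meet s t).hom_ext ?_ ?_) (a1.trans b1.symm)
    · rw [← under_comp, ← under_comp, a1, b1]
    · rw [← under_comp, ← under_comp, a2, b2, e]
  rw [← a2, ← b2, c]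

theorem rel_trans {w : 𝒮.obj} {s t q : (Stk.sieveCat R).obj} {α : w ⟶ (Δ.obj s).snd} {β : w ⟶ (Δ.obj t).snd}
    {δ : w ⟶ (Δ.obj q).snd} (h : Rel Δ α β) (h' : Rel Δ β δ) : Rel Δ α δ := by
  obtain ⟨r, k₁, k₂, γ, h1, h2⟩ := h
  have e : under Δ δ ≫ u.map q.obj.hom = under Δ γ ≫ u.map r.obj.hom := by
    rw [← rel_img h', ← h2, under_comp, Category.assoc, ← u.map_comp, Over.w k₂.hom]
  obtain ⟨ρ, hρ, hρ'⟩ := exists_under (meetFst r q) γ ((isPullback_meet r q).lift (under Δ γ) (under Δ δ) e.symm)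
    ((isPullback_meet r q).lift_fst _ _ _)
  have hd : ρ ≫ (Δ.map (meetSnd r q)).snd = δ := by
    refine rel_unique (α := β) ⟨_, meetFst r q ≫ k₂, meetSnd r q, ρ, ?_, rfl⟩ h' ?_
    · rw [comp_map_snd, hρ', h2]
    · rw [under_comp, hρ]
      exact (isPullback_meet r q).lift_snd _ _ _
  refine ⟨_, meetFst r q ≫ k₁, meetSnd r q, ρ, ?_, hd⟩
  rw [comp_map_snd, hρ', h1]

variable (Δ)

theorem exists_germs : ∃ (E : Stk.sieveCat (R.functorPushforward u) ⥤ᵇ 𝒮)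
    (t : (Stk.sieveCat (R.functorPushforward u)).obj → (Stk.sieveCat R).obj)
    (π : ∀ g, E.obj g ⟶ (Δ.obj (t g)).snd),
    (∀ g, under Δ (π g) ≫ u.map (t g).obj.hom = eqToHom (E.w_obj g) ≫ g.obj.hom) ∧
    ∀ {g g'} (m : g ⟶ g'), Rel Δ (π g) (E.map m ≫ π g') := by
  have H : ∀ g : (Stk.sieveCat (R.functorPushforward u)).obj, ∃ (t : (Stk.sieveCat R).obj)
      (h : g.obj.left ⟶ u.obj t.obj.left), h ≫ u.map t.obj.hom = g.obj.hom := fun g =>
    let ⟨_, f, h, hf, e⟩ := g.property; ⟨sMk f hf, h, e.symm⟩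
  choose t h he using H
  choose a π ha hπ using fun g => exists_lift_map h𝒮 (Δ.obj (t g)).snd (h g ≫ (bIso Δ (t g)).hom)
  have hund : ∀ g, under Δ (π g) = eqToHom (ha g) ≫ h g := fun g => by simp [under, hπ g]
  have hcond : ∀ g, under Δ (π g) ≫ u.map (t g).obj.hom = eqToHom (ha g) ≫ g.obj.hom := fun g => by
    rw [hund, Category.assoc, he]
  have key : ∀ {g g' : (Stk.sieveCat (R.functorPushforward u)).obj} (m : g ⟶ g'),
      ∃ χ : a g ⟶ a g', 𝒮.p.map χ = eqToHom (ha g) ≫ m.hom.left ≫ eqToHom (ha g').symm ∧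
        Rel Δ (π g) (χ ≫ π g') := by
    intro g g' m
    obtain ⟨β, hβ, hrel⟩ := rel_exists (π g) (t := t g') (eqToHom (ha g) ≫ m.hom.left ≫ h g') (by
      rw [Category.assoc, Category.assoc, he, hcond]
      exact congrArg _ (Over.w m.hom))
    obtain ⟨χ, ⟨h1, h2⟩, -⟩ := existsUnique_fac (π g') β (eqToHom (ha g) ≫ m.hom.left ≫ eqToHom (ha g').symm) (by
      rw [map_eq_under Δ β, map_eq_under Δ (π g'), hβ, hund]
      simp)
    exact ⟨χ, h1, by rw [h2]; exact hrel⟩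
  choose χ hχ hχr using @key
  have huniq : ∀ {g g' : (Stk.sieveCat (R.functorPushforward u)).obj} (m : g ⟶ g') (χ' : a g ⟶ a g'),
      𝒮.p.map χ' = eqToHom (ha g) ≫ m.hom.left ≫ eqToHom (ha g').symm → Rel Δ (π g) (χ' ≫ π g') → χ' = χ m :=
    fun {g g'} m χ' h1 h2 => hom_ext (π g') (h1.trans (hχ m).symm)
      (rel_unique h2 (hχr m) (by rw [under_pre, under_pre, h1, hχ]))
  let E : Stk.sieveCat (R.functorPushforward u) ⥤ᵇ 𝒮 :=
    { toFunctor :=
        { obj := a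
          map := fun m => χ m
          map_id := fun g => (huniq (𝟙 g) (𝟙 (a g)) (by
            rw [𝒮.p.map_id]
            refine Eq.trans ?_ (congrArg (eqToHom (ha g) ≫ ·) (Category.id_comp _).symm)
            simp) (by rw [Category.id_comp]; exact rel_refl _)).symm
          map_comp := fun {g g' g''} m n => (huniq (m ≫ n) (χ m ≫ χ n) (by
            rw [Functor.map_comp, hχ, hχ]
            simp
            exact congrArg (eqToHom (ha g) ≫ ·) (Category.assoc _ _ _).symm) (by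
            rw [Category.assoc]
            exact rel_trans (hχr m) (rel_pre (χ m) (hχr n)))).symm }
      w := CategoryTheory.Functor.ext ha fun g g' m => hχ m }
  exact ⟨E, t, π, hcond, fun m => hχr m⟩

theorem isStackFor_baseCh (hS : SConeUniq (R.functorPushforward u) 𝒮 ∧ SGlue (R.functorPushforward u) 𝒮) :
    (∀ c c' : SCone Δ, ∃! h : c.pt ⟶ c'.pt,
      (baseCh u 𝒮).p.map h = eqToHom (c.base.trans c'.base.symm) ∧ ∀ s, c.ι s ≫ h = c'.ι s) ∧
    Nonempty (SCone Δ) := by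
  obtain ⟨E, t, π, hπ, hE⟩ := exists_germs Δ
  let G : (Stk.sieveCat R).obj → (Stk.sieveCat (R.functorPushforward u)).obj := fun s =>
    ⟨Over.mk (u.map s.obj.hom), Sieve.image_mem_functorPushforward u R s.property⟩
  have hσ : ∀ s, ∃ σ : E.obj (G s) ⟶ (Δ.obj s).snd,
      under Δ σ = eqToHom (E.w_obj (G s)) ∧ Rel Δ (π (G s)) σ ∧ IsIso σ := fun s => by
    obtain ⟨σ, h1, h2⟩ := rel_exists (π (G s)) (t := s) (eqToHom (E.w_obj (G s))) (hπ (G s)).symm
    have : IsIso (𝒮.p.map σ) := by rw [map_eq_under Δ σ, h1]; infer_instance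
    exact ⟨σ, h1, h2, isIso_of_isIso_map σ⟩
  choose σ hσu hσr hσi using hσ
  have hdown : ∀ c : SCone Δ, ∃ (d : SCone E) (ψ : d.pt ⟶ c.pt.snd), IsIso ψ ∧
      𝒮.p.map ψ = eqToHom d.base ≫ eqToHom (congrArg u.obj c.base.symm) ≫ c.pt.iso.hom ∧
      ∀ g, d.ι g ≫ ψ = π g ≫ (c.ι (t g)).snd := fun c => by
    obtain ⟨y, ψ, hy, hψ⟩ := exists_lift_map h𝒮 c.pt.snd
      (eqToHom (congrArg u.obj c.base.symm) ≫ c.pt.iso.hom)
    have : IsIso (𝒮.p.map ψ) := by rw [hψ]; infer_instance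
    have : IsIso ψ := isIso_of_isIso_map ψ
    have hq : ∀ g, 𝒮.p.map (π g ≫ (c.ι (t g)).snd) = eqToHom (E.w_obj g) ≫ g.obj.hom ≫
        eqToHom (congrArg u.obj c.base.symm) ≫ c.pt.iso.hom := fun g => by
      have h1 := (c.ι (t g)).w
      have h2 : (c.ι (t g)).fst = eqToHom (Δ.w_obj (t g)) ≫ (t g).obj.hom ≫ eqToHom c.base.symm := c.map_ι (t g)
      rw [h2] at h1
      simp only [Functor.map_comp, eqToHom_map, Category.assoc] at h1
      rw [Functor.map_comp, map_eq_under Δ (π g)]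
      simp only [bIso, Iso.trans_hom, eqToIso.hom, Category.assoc]
      rw [← h1, eqToHom_trans_assoc, eqToHom_refl, Category.id_comp, ← reassoc_of% (hπ g)]
    refine ⟨{ pt := y, base := hy, ι := fun g => π g ≫ (c.ι (t g)).snd ≫ inv ψ, map_ι := fun g => ?_,
              nat := fun {g g'} m => ?_ }, ψ, inferInstance, hψ, fun g => by simp⟩
    · rw [← Category.assoc, Functor.map_comp, Functor.map_inv, IsIso.comp_inv_eq, hq, hψ]
      simp
    · rw [← Category.assoc, ← Category.assoc, ← Category.assoc]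
      exact congrArg (· ≫ inv ψ) (rel_cone (hE m) c).symm
  have hrec : ∀ (c : SCone Δ) (d : SCone E) (ψ : d.pt ⟶ c.pt.snd),
      (∀ g, d.ι g ≫ ψ = π g ≫ (c.ι (t g)).snd) → ∀ s, σ s ≫ (c.ι s).snd = d.ι (G s) ≫ ψ :=
    fun c d ψ h s => by rw [h]; exact (rel_cone (hσr s) c).symm
  constructor
  · intro c c'
    obtain ⟨d, ψ, hi, hψ, hd⟩ := hdown c
    obtain ⟨d', ψ', hi', hψ', hd'⟩ := hdown c'
    obtain ⟨h, ⟨hh, hι⟩, hu⟩ := hS.1 _ d d'
    let H : c.pt ⟶ c'.pt :=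
      { fst := eqToHom (c.base.trans c'.base.symm)
        snd := inv ψ ≫ h ≫ ψ'
        w := by
          rw [Functor.map_comp, Functor.map_comp, Functor.map_inv, hh, hψ']
          simp [hψ, eqToHom_map] }
    refine ⟨H, ⟨rfl, fun s => ?_⟩, fun H' hH => ?_⟩
    · refine bc_hom_ext ?_ ?_
      · change (c.ι s).fst ≫ eqToHom (c.base.trans c'.base.symm) = (c'.ι s).fst
        rw [show (c.ι s).fst = _ from c.map_ι s, show (c'.ι s).fst = _ from c'.map_ι s]
        simp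
      · have := hσi s
        rw [← cancel_epi (σ s)]
        change σ s ≫ (c.ι s).snd ≫ inv ψ ≫ h ≫ ψ' = σ s ≫ (c'.ι s).snd
        rw [reassoc_of% (hrec c d ψ hd s), IsIso.hom_inv_id_assoc, reassoc_of% (hι (G s)), hrec c' d' ψ' hd' s]
    · have hf : H'.fst = eqToHom (c.base.trans c'.base.symm) := hH.1
      refine bc_hom_ext hf ?_
      have hH' : ψ ≫ H'.snd ≫ inv ψ' = h := by
        refine hu _ ⟨?_, fun g => ?_⟩
        · have h1 := H'.w
          rw [hf, eqToHom_map] at h1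
          rw [Functor.map_comp, Functor.map_comp, Functor.map_inv, ← Category.assoc, IsIso.comp_inv_eq, hψ, hψ',
            Category.assoc, Category.assoc, ← h1]
          simp
        · have h2 : (c.ι (t g)).snd ≫ H'.snd = (c'.ι (t g)).snd := congrArg (fun k => k.snd) (hH.2 (t g))
          rw [reassoc_of% (hd g), reassoc_of% h2, ← reassoc_of% (hd' g), IsIso.hom_inv_id, Category.comp_id]
      show H'.snd = inv ψ ≫ h ≫ ψ'
      rw [← hH']
      simp
  · obtain ⟨d⟩ := hS.2 E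
    have hw : ∀ s, 𝒮.p.map (inv (I := hσi s) (σ s) ≫ d.ι (G s)) =
        (bIso Δ s).inv ≫ u.map s.obj.hom ≫ eqToHom d.base.symm := fun s => by
      have := hσi s
      have : IsIso (𝒮.p.map (σ s)) := inferInstance
      rw [Functor.map_comp, Functor.map_inv, IsIso.inv_comp_eq, d.map_ι, map_eq_under Δ (σ s), hσu]
      simp
      rfl
    let ι : ∀ s, Δ.obj s ⟶ bcMk u 𝒮 U d.pt (eqToIso d.base.symm) := fun s =>
      { fst := eqToHom (Δ.w_obj s) ≫ s.obj.hom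
        snd := inv (I := hσi s) (σ s) ≫ d.ι (G s)
        w := by
          rw [hw s]
          simp [bIso, eqToHom_map] }
    refine ⟨{ pt := bcMk u 𝒮 U d.pt (eqToIso d.base.symm), base := rfl, ι := ι,
              map_ι := fun s => (congrArg (eqToHom (Δ.w_obj s) ≫ ·) (Category.comp_id _)).symm,
              nat := fun {r s} k => bc_hom_ext ?_ ?_ }⟩
    · change (Δ.map k).fst ≫ eqToHom (Δ.w_obj s) ≫ s.obj.hom = eqToHom (Δ.w_obj r) ≫ r.obj.hom
      rw [show (Δ.map k).fst = _ from map_w Δ k]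
      simp
      exact congrArg _ (Over.w k.hom)
    · have := hσi r
      have := hσi s
      let m : G r ⟶ G s := ObjectProperty.homMk (Over.homMk (u.map k.hom.left)
        ((u.map_comp _ _).symm.trans (congrArg u.map (Over.w k.hom))))
      change (Δ.map k).snd ≫ inv (σ s) ≫ d.ι (G s) = inv (σ r) ≫ d.ι (G r)
      rw [← cancel_epi (σ r), IsIso.hom_inv_id_assoc, ← d.nat m]
      have hk : σ r ≫ (Δ.map k).snd = E.map m ≫ σ s := by
        refine rel_unique (α := π (G r)) (rel_trans (hσr r) (rel_post _ k))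
          (rel_trans (hE m) (rel_pre (E.map m) (hσr s))) ?_
        rw [under_comp, under_pre, hσu, hσu, map_w E m]
        simp
        rfl
      rw [reassoc_of% hk, IsIso.hom_inv_id_assoc]

theorem isStack_baseCh (J : GrothendieckTopology C) (K : GrothendieckTopology D) (hu : CoverPreserving J K u)
    (hS : Stk.IsStack K 𝒮) : Stk.IsStack J (baseCh u 𝒮) := by
  have := isFibGrpd_baseCh (u := u) (𝒮 := 𝒮)
  refine isStack_iff.2 fun U R hR => ?_
  have key := fun Δ : Stk.sieveCat R ⥤ᵇ baseCh u 𝒮 =>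
    isStackFor_baseCh Δ (isStack_iff.1 hS _ (hu.cover_preserve hR))
  exact ⟨fun Δ c c' => (key Δ).1 c c', fun Δ => (key Δ).2⟩

end Groth.Agent.RepOne
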