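import Groth.Agent.RepOne.Desc
import Groth.Agent.RepOne.Restricted
/-!
Descent for a faithful functor whose fibres over slices satisfy descent over the slices.
-/

set_option backward.isDefEq.respectTransparency false
set_option backward.isDefEq.respectTransparency.types false

universe v₃ u₃ v₂ u₂ v u

open CategoryTheory

namespace Groth.Agent.RepOne

open Groth.Agent.ASt

variable {C : Type u} [Category.{v} C] {𝒳 : BasedCategory.{v₂, u₂} C} {𝒴 : BasedCategory.{v₃, u₃} C}
variable [h𝒳 : FibCat.IsFibGrpd 𝒳.p] [h𝒴 : FibCat.IsFibGrpd 𝒴.p]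
variable {U : C} (R : Sieve U)

/-- The sieve on the terminal object of a slice. -/
abbrev topSieve : Sieve (ov (𝟙 U) : (FibCat.overCat U).obj) := (Sieve.overEquiv (Over.mk (𝟙 U))).symm R

theorem topSieve_iff {a : Over U} (f : a ⟶ Over.mk (𝟙 U)) : (topSieve R) f ↔ R a.hom := by
  rw [topSieve, Sieve.overEquiv_symm_iff, show f.left = a.hom from (Category.comp_id _).symm.trans (Over.w f)]

/-- Objects of the sieve on the terminal object of the slice, as members of the sieve. -/
def belowTop : (Stk.sieveCat (topSieve R)).obj ⥤ (Stk.sieveCat R).obj where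
  obj s := ⟨s.obj.left, (topSieve_iff R s.obj.hom).1 s.property⟩
  map m := ObjectProperty.homMk m.hom.left

/-- The member of the sieve on the terminal object attached to a member. -/
def aboveTop (s : (Stk.sieveCat R).obj) : (Stk.sieveCat (topSieve R)).obj :=
  ⟨Over.mk (toTop s.obj), (topSieve_iff R (toTop s.obj)).2 s.property⟩

variable {R} {F : 𝒳 ⥤ᵇ 𝒴} {D : Stk.sieveCat R ⥤ᵇ 𝒳} (t : SCone (BasedFunctor.comp D F))

/-- The category of lifts of the vertex of a cone. -/
noncomputable abbrev liftsCat : BasedCategory (Over U) :=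
  BasedCategory.ofFunctor ((FibCat.fpFst (objFun t.pt t.base) F).toFunctor :
    (FibCat.fp (objFun t.pt t.base) F).obj ⥤ Over U)

/-- The comparison of the slice functor of a cone with the datum. -/
noncomputable def liftIso : (Stk.resSieve R 𝒴).obj (objFun t.pt t.base) ≅ BasedFunctor.comp D F :=
  t.exists_iso.choose

theorem liftIso_comp (s : (Stk.sieveCat R).obj) :
    (liftIso t).hom.toNatTrans.app s ≫ t.ι s = pullHom t.pt t.base s.obj.hom :=
  t.exists_iso.choose_spec s

/-- The datum of lifts. -/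
noncomputable def liftDatum : Stk.sieveCat (topSieve R) ⥤ᵇ liftsCat t where
  toFunctor :=
    { obj := fun s => fpMk (F := objFun t.pt t.base) (G := F) s.obj.left (D.obj ((belowTop R).obj s))
        (D.w_obj _) (((BasedNatTrans.forgetful _ _).mapIso (liftIso t)).app ((belowTop R).obj s))
        ((map_app _ _ (liftIso t).hom ((belowTop R).obj s)).trans rfl)
      map := fun {s s'} m => fpHomMk m.hom.left (D.map ((belowTop R).map m))
        ((liftIso t).hom.toNatTrans.naturality ((belowTop R).map m))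
      map_id := fun s => fp_hom_ext rfl (D.toFunctor.map_id _)
      map_comp := fun m n => fp_hom_ext rfl ((congrArg (fun k => D.map k) ((belowTop R).map_comp m n)).trans (D.toFunctor.map_comp _ _)) }
  w := rfl

/-- The vertex of a cone comparable with `t`, as an object of the category of lifts. -/
noncomputable def liftPt (c : SCone D) (k : t.pt ⟶ F.obj c.pt)
    (hk : 𝒴.p.map k = eqToHom (t.base.trans ((F.w_obj c.pt).trans c.base).symm)) : (liftsCat t).obj :=
  fpObj (y := objFun t.pt t.base) (f := F) (𝟙 U) c.pt c.base (pullHom t.pt t.base (𝟙 U) ≫ k) (by simp [hk])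

/-- A cone comparable with `t` gives a cone of lifts. -/
noncomputable def liftCone (c : SCone D) (k : t.pt ⟶ F.obj c.pt)
    (hk : 𝒴.p.map k = eqToHom (t.base.trans ((F.w_obj c.pt).trans c.base).symm))
    (hι : ∀ s, t.ι s ≫ k = F.map (c.ι s)) : SCone (liftDatum t) where
  pt := liftPt t c k hk
  base := rfl
  ι s := fpHomMk (m := (liftDatum t).obj s) (n := liftPt t c k hk) s.obj.hom (c.ι ((belowTop R).obj s)) (by
    change objMap t.pt t.base s.obj.hom ≫ pullHom t.pt t.base (𝟙 U) ≫ k =
      (liftIso t).hom.toNatTrans.app ((belowTop R).obj s) ≫ F.map (c.ι ((belowTop R).obj s))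
    rw [← Category.assoc]
    refine (congrArg (· ≫ k) (objMap_comp t.pt t.base s.obj.hom)).trans ?_
    refine (congrArg (· ≫ k) (liftIso_comp t ((belowTop R).obj s)).symm).trans ?_
    exact (Category.assoc _ _ _).trans (congrArg _ (hι _)))
  map_ι s := (by simp : s.obj.hom = 𝟙 _ ≫ s.obj.hom ≫ 𝟙 _)
  nat {s s'} m := fp_hom_ext (Over.w m.hom) (c.nat ((belowTop R).map m))

variable (J : GrothendieckTopology C)

theorem isStack_of_faithful_over (hY : Stk.IsStack J 𝒴) (F : 𝒳 ⥤ᵇ 𝒴) [F.toFunctor.Faithful]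
    (h3 : ∀ (U : C) (y : FibCat.overCat U ⥤ᵇ 𝒴),
      Stk.IsStack (J.over U) (BasedCategory.ofFunctor ((FibCat.fpFst y F).toFunctor : (FibCat.fp y F).obj ⥤ Over U))) :
    Stk.IsStack J 𝒳 := by
  refine isStack_iff.2 fun U R hR => ?_
  have hsieve : topSieve R ∈ (J.over U) (Over.mk (𝟙 U)) := J.overEquiv_symm_mem_over (Over.mk (𝟙 U)) R hR
  obtain ⟨hYu, hYg⟩ := isStack_iff.1 hY R hR
  have key : ∀ (D : Stk.sieveCat R ⥤ᵇ 𝒳) (t : SCone (BasedFunctor.comp D F)),
      SConeUniq (topSieve R) (liftsCat t) ∧ SGlue (topSieve R) (liftsCat t) := fun D t => by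
    have : FibCat.IsFibGrpd (liftsCat t).p := (h3 U (objFun t.pt t.base)).1
    exact isStack_iff.1 (h3 U (objFun t.pt t.base)) _ hsieve
  refine ⟨fun D c c' => ?_, fun D => ?_⟩
  · obtain ⟨k, ⟨hk, hkι⟩, hku⟩ := hYu _ (c.map F) (c'.map F)
    let z := liftCone (c.map F) c (𝟙 (F.obj c.pt)) ((𝒴.p.map_id _).trans rfl) (fun s => Category.comp_id _)
    let z' := liftCone (c.map F) c' k hk hkι
    obtain ⟨h, ⟨hh, hhι⟩, -⟩ := (key D (c.map F)).1 _ z z'
    refine ⟨h.hom.snd, ⟨?_, fun s => ?_⟩, fun h' ⟨hh', hh'ι⟩ => F.toFunctor.map_injective ?_⟩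
    · rw [fp_map_snd, show h.hom.fst = 𝟙 _ from hh]
      simp [z, z', liftCone, liftPt, fpObj, fpMk]
    · exact congrArg (fun m => m.hom.snd) (hhι (aboveTop R s))
    · refine (hku (F.map h') ⟨(map_w F h').trans (by rw [hh']; simp), fun s => ?_⟩).trans
        (hku (F.map h.hom.snd) ⟨?_, fun s => ?_⟩).symm
      · exact (F.toFunctor.map_comp _ _).symm.trans (congrArg (fun m => F.map m) (hh'ι s))
      · refine (map_w F _).trans ?_
        rw [fp_map_snd, show h.hom.fst = 𝟙 _ from hh]
        simp [z, z', liftCone, liftPt, fpObj, fpMk]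
      · exact (F.toFunctor.map_comp _ _).symm.trans
          (congrArg (fun m => F.map m) (congrArg (fun m => m.hom.snd) (hhι (aboveTop R s))))
  · obtain ⟨t⟩ := hYg (BasedFunctor.comp D F)
    obtain ⟨z⟩ := (key D t).2 (liftDatum t)
    have hb : z.pt.obj.fst.left = U := congrArg (fun a : Over U => a.left) z.base
    refine ⟨{ pt := z.pt.obj.snd, base := (fp_snd_base z.pt).trans hb,
              ι := fun s => (z.ι (aboveTop R s)).hom.snd, map_ι := fun s => ?_, nat := fun {s s'} m => ?_ }⟩
    · have h1 : (z.ι (aboveTop R s)).hom.fst = _ := z.map_ι (aboveTop R s)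
      rw [fp_map_snd, h1]
      simp [aboveTop, liftDatum, fpMk, toTop, FibCat.overCat, BasedCategory.ofFunctor, Over.eqToHom_left]
    · let m' : aboveTop R s ⟶ aboveTop R s' :=
        ObjectProperty.homMk (Over.homMk m.hom (Over.OverMorphism.ext (Over.w m.hom)))
      exact congrArg (fun k => k.hom.snd) (z.nat m')

end Groth.Agent.RepOne
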