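import Groth.Agent.RepOne.Desc
import Groth.Agent.RepOne.Restricted
/-!
Descent in a tower `𝒴 ⟶ 𝒳 ⟶ C` of categories fibred in groupoids.
-/

set_option backward.isDefEq.respectTransparency false
set_option backward.isDefEq.respectTransparency.types false
set_option linter.unusedSectionVars false

universe v₃ u₃ v₂ u₂ v u

open CategoryTheory

namespace Groth.Agent.RepOne

open Groth.Agent.ASt

variable {C : Type u} [Category.{v} C] {𝒳 : BasedCategory.{v₂, u₂} C} {𝒴 : BasedCategory.{v₃, u₃} 𝒳.obj}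

/-- The composite category over `C`. -/
abbrev tower (𝒴 : BasedCategory.{v₃, u₃} 𝒳.obj) : BasedCategory C := BasedCategory.ofFunctor (𝒴.p ⋙ 𝒳.p)

/-- The projection of the composite category. -/
def towerProj (𝒴 : BasedCategory.{v₃, u₃} 𝒳.obj) : tower 𝒴 ⥤ᵇ 𝒳 where
  toFunctor := 𝒴.p
  w := rfl

theorem isFibGrpd_tower [h𝒳 : FibCat.IsFibGrpd 𝒳.p] [h𝒴 : FibCat.IsFibGrpd 𝒴.p] :
    FibCat.IsFibGrpd (tower 𝒴).p := by
  refine ⟨fun {y V} f => ?_, fun {y x} φ => ?_⟩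
  · let a := pull (𝒳 := 𝒳) (𝒴.p.obj y) rfl f
    let σ := pullHom (𝒳 := 𝒳) (𝒴.p.obj y) rfl f
    obtain ⟨z, ψ, hz, e⟩ := exists_lift_map h𝒴 y σ
    refine ⟨z, ψ, IsHomLift.of_fac' (tower 𝒴).p f ψ ((congrArg 𝒳.p.obj hz).trans (pull_base _ _ _)) rfl ?_⟩
    change 𝒳.p.map (𝒴.p.map ψ) = _
    rw [e, Functor.map_comp, eqToHom_map, map_pullHom]
    simp
  · refine { universal_property' := fun {z} g ψ hψ => ?_ }
    have hg : g ≫ 𝒳.p.map (𝒴.p.map φ) = 𝒳.p.map (𝒴.p.map ψ) :=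
      IsHomLift.eq_of_isHomLift (tower 𝒴).p (g ≫ (tower 𝒴).p.map φ) ψ
    let a := facMap (𝒳 := 𝒳) (𝒴.p.map φ) (𝒴.p.map ψ) g hg
    obtain ⟨χ, ⟨h1, h2⟩, hu⟩ := existsUnique_fac (𝒳 := 𝒴) φ ψ a (facMap_comp _ _ _ _)
    have h3 : g = (tower 𝒴).p.map χ := ((congrArg (fun k => 𝒳.p.map k) h1).trans (map_facMap _ _ _ _)).symm
    refine ⟨χ, ⟨by rw [h3]; infer_instance, h2⟩, fun χ' ⟨hl, hc⟩ => hu χ' ⟨?_, hc⟩⟩
    refine hom_ext (𝒳 := 𝒳) (𝒴.p.map φ) ?_ ?_
    · exact (IsHomLift.eq_of_isHomLift (tower 𝒴).p g χ').symm.trans (map_facMap (𝒳 := 𝒳) (𝒴.p.map φ) (𝒴.p.map ψ) g hg).symm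
    · exact ((𝒴.p.map_comp _ _).symm.trans (congrArg (fun k => 𝒴.p.map k) hc)).trans (facMap_comp _ _ _ _).symm

variable [h𝒳 : FibCat.IsFibGrpd 𝒳.p] {U : C} (x : 𝒳.obj) (hx : 𝒳.p.obj x = U) (R : Sieve U)

/-- The sieve of arrows into `x` whose image lies in `R`. -/
def liftSieve : Sieve x where
  arrows _ τ := R (𝒳.p.map τ ≫ eqToHom hx)
  downward_closed {W W' τ} h k := by
    show R (𝒳.p.map (k ≫ τ) ≫ eqToHom hx)
    rw [Functor.map_comp, Category.assoc]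
    exact R.downward_closed h _

theorem exists_lift_mem {V : C} {g : V ⟶ U} (hg : R g) :
    ∃ (w : 𝒳.obj) (τ : w ⟶ x) (hw : 𝒳.p.obj w = V),
      liftSieve x hx R τ ∧ 𝒳.p.map τ = eqToHom hw ≫ g ≫ eqToHom hx.symm := by
  refine ⟨pull x hx g, pullHom x hx g, pull_base x hx g, ?_, map_pullHom x hx g⟩
  show R (𝒳.p.map (pullHom x hx g) ≫ eqToHom hx)
  rw [map_pullHom]
  simpa using R.downward_closed hg (eqToHom (pull_base x hx g))

theorem liftSieve_mem (J : GrothendieckTopology C) (hR : R ∈ J U) :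
    liftSieve x hx R ∈ 𝒳.p.restrictedTopology J x := by
  subst hx
  rw [mem_restrictedTopology_iff h𝒳]
  refine J.superset_covering (fun V g hg => ?_) hR
  obtain ⟨w, τ, hw, hmem, e⟩ := exists_lift_mem x rfl R hg
  exact ⟨w, τ, eqToHom hw.symm, hmem, by simp [e]⟩

theorem eq_liftSieve (x : 𝒳.obj) (R' : Sieve x) :
    R' = liftSieve x rfl (R'.functorPushforward 𝒳.p) := by
  ext w τ
  change R' τ ↔ R'.functorPushforward 𝒳.p (𝒳.p.map τ ≫ 𝟙 _)
  rw [Category.comp_id]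
  refine ⟨fun h => Sieve.image_mem_functorPushforward _ _ h, fun ⟨z, σ, h, hσ, e⟩ => ?_⟩
  obtain ⟨χ, ⟨-, hχ⟩, -⟩ := existsUnique_fac σ τ h e.symm
  rw [← hχ]
  exact R'.downward_closed hσ χ

/-- The image of the members of the lifted sieve. -/
def lowerMem : (Stk.sieveCat (liftSieve x hx R)).obj ⥤ (Stk.sieveCat R).obj where
  obj τ := ⟨Over.mk (𝒳.p.map τ.obj.hom ≫ eqToHom hx), τ.property⟩
  map {τ τ'} m := ObjectProperty.homMk (Over.homMk (𝒳.p.map m.hom.left) (by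
    change 𝒳.p.map m.hom.left ≫ 𝒳.p.map τ'.obj.hom ≫ eqToHom hx = 𝒳.p.map τ.obj.hom ≫ eqToHom hx
    rw [← Functor.map_comp_assoc, Over.w m.hom]))
  map_id τ := ObjectProperty.hom_ext _ (Over.OverMorphism.ext (𝒳.p.map_id _))
  map_comp m n := ObjectProperty.hom_ext _ (Over.OverMorphism.ext (𝒳.p.map_comp _ _))

theorem lowerMem_full {τ τ' : (Stk.sieveCat (liftSieve x hx R)).obj}
    (n : (lowerMem x hx R).obj τ ⟶ (lowerMem x hx R).obj τ') : ∃ m : τ ⟶ τ', (lowerMem x hx R).map m = n := by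
  have h : n.hom.left ≫ 𝒳.p.map τ'.obj.hom ≫ eqToHom hx = 𝒳.p.map τ.obj.hom ≫ eqToHom hx := Over.w n.hom
  obtain ⟨m, ⟨h1, h2⟩, -⟩ := existsUnique_fac (𝒳 := 𝒳) τ'.obj.hom τ.obj.hom n.hom.left
    ((cancel_mono (eqToHom hx)).1 ((Category.assoc _ _ _).trans h))
  exact ⟨ObjectProperty.homMk (Over.homMk m h2), ObjectProperty.hom_ext _ (Over.OverMorphism.ext h1)⟩

theorem lowerMem_surj (s : (Stk.sieveCat R).obj) :
    ∃ (τ : (Stk.sieveCat (liftSieve x hx R)).obj) (i : s ⟶ (lowerMem x hx R).obj τ)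
      (j : (lowerMem x hx R).obj τ ⟶ s), i ≫ j = 𝟙 s ∧ j ≫ i = 𝟙 _ := by
  obtain ⟨w, τ, hw, hmem, e⟩ := exists_lift_mem x hx R s.property
  refine ⟨⟨Over.mk τ, hmem⟩,
    ObjectProperty.homMk (Over.homMk (eqToHom hw.symm)
      (show eqToHom hw.symm ≫ 𝒳.p.map τ ≫ eqToHom hx = s.obj.hom by simp [e])),
    ObjectProperty.homMk (Over.homMk (eqToHom hw)
      (show eqToHom hw ≫ s.obj.hom = 𝒳.p.map τ ≫ eqToHom hx by simp [e])),
    sieve_hom_ext ((eqToHom_trans hw.symm hw).trans (eqToHom_refl _ _)),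
    sieve_hom_ext ((eqToHom_trans hw hw.symm).trans (eqToHom_refl _ _))⟩

variable {x hx R} {D : Stk.sieveCat R ⥤ᵇ tower 𝒴}

theorem cone_ext {y : 𝒴.obj} {ι ι' : ∀ s, D.obj s ⟶ y}
    (n : ∀ {s t} (m : s ⟶ t), D.map m ≫ ι t = ι s) (n' : ∀ {s t} (m : s ⟶ t), D.map m ≫ ι' t = ι' s)
    (h : ∀ τ, ι ((lowerMem x hx R).obj τ) = ι' ((lowerMem x hx R).obj τ)) (s) : ι s = ι' s := by
  obtain ⟨τ, i, -, -⟩ := lowerMem_surj x hx R s
  rw [← n i, ← n' i, h τ]

theorem cone_extend {y : 𝒴.obj} (hy : 𝒳.p.obj (𝒴.p.obj y) = U)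
    (u : ∀ τ, D.obj ((lowerMem x hx R).obj τ) ⟶ y)
    (hu : ∀ τ, 𝒳.p.map (𝒴.p.map (u τ)) =
      eqToHom (D.w_obj _) ≫ ((lowerMem x hx R).obj τ).obj.hom ≫ eqToHom hy.symm)
    (nat : ∀ {τ τ'} (m : τ ⟶ τ'), D.map ((lowerMem x hx R).map m) ≫ u τ' = u τ) :
    ∃ c : SCone D, ∃ e : c.pt = y, ∀ τ, c.ι ((lowerMem x hx R).obj τ) ≫ eqToHom e = u τ := by
  choose T i j hij hji using lowerMem_surj x hx R
  have key : ∀ {s} {τ} (n : s ⟶ (lowerMem x hx R).obj τ), D.map n ≫ u τ = D.map (i s) ≫ u (T s) := fun {s τ} n => by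
    obtain ⟨m, hm⟩ := lowerMem_full x hx R (j s ≫ n)
    rw [← nat m, hm, ← Category.assoc, ← D.toFunctor.map_comp, ← Category.assoc, hij, Category.id_comp]
  refine ⟨{ pt := y, base := hy, ι := fun s => D.map (i s) ≫ u (T s), map_ι := fun s => ?_,
            nat := fun {s t} m => ?_ }, rfl, fun τ => ?_⟩
  · refine (((tower 𝒴).p.map_comp _ _).trans (congrArg (_ ≫ ·) (hu (T s)))).trans ?_
    rw [map_w D (i s)]
    simp only [Category.assoc, eqToHom_trans_assoc, eqToHom_refl, Category.id_comp]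
    exact congrArg (fun k => eqToHom _ ≫ k)
      ((Category.assoc _ _ _).symm.trans (congrArg (· ≫ eqToHom _) (Over.w (i s).hom)))
  · exact (Category.assoc _ _ _).symm.trans ((congrArg (· ≫ u (T t)) (D.toFunctor.map_comp _ _).symm).trans (key _))
  · refine (Category.comp_id _).trans ((key (𝟙 _)).symm.trans ?_)
    rw [D.toFunctor.map_id, Category.id_comp]

section Down

variable [h𝒴 : FibCat.IsFibGrpd 𝒴.p] (t : SCone (BasedFunctor.comp D (towerProj 𝒴))) (ht : t.pt = x)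

theorem lowerHom_fac (τ : (Stk.sieveCat (liftSieve x hx R)).obj) :
    ∃ j : τ.obj.left ⟶ 𝒴.p.obj (D.obj ((lowerMem x hx R).obj τ)),
      𝒳.p.map j = eqToHom (D.w_obj ((lowerMem x hx R).obj τ)).symm ∧
        j ≫ t.ι ((lowerMem x hx R).obj τ) ≫ eqToHom ht = τ.obj.hom := by
  obtain ⟨j, hj, -⟩ := existsUnique_fac (𝒳 := 𝒳) (t.ι ((lowerMem x hx R).obj τ) ≫ eqToHom ht) τ.obj.hom
    (eqToHom (D.w_obj ((lowerMem x hx R).obj τ)).symm) (by
      rw [Functor.map_comp, t.map_ι, eqToHom_map]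
      simp [lowerMem])
  exact ⟨j, hj⟩

theorem lowerHom_nat {τ τ' : (Stk.sieveCat (liftSieve x hx R)).obj} (m : τ ⟶ τ')
    {j : τ.obj.left ⟶ 𝒴.p.obj (D.obj ((lowerMem x hx R).obj τ))}
    (hj : 𝒳.p.map j = eqToHom (D.w_obj ((lowerMem x hx R).obj τ)).symm)
    (hj2 : j ≫ t.ι ((lowerMem x hx R).obj τ) ≫ eqToHom ht = τ.obj.hom)
    {j' : τ'.obj.left ⟶ 𝒴.p.obj (D.obj ((lowerMem x hx R).obj τ'))}
    (hj' : 𝒳.p.map j' = eqToHom (D.w_obj ((lowerMem x hx R).obj τ')).symm)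
    (hj2' : j' ≫ t.ι ((lowerMem x hx R).obj τ') ≫ eqToHom ht = τ'.obj.hom) :
    m.hom.left ≫ j' = j ≫ 𝒴.p.map (D.map ((lowerMem x hx R).map m)) := by
  refine hom_ext (𝒳 := 𝒳) (t.ι ((lowerMem x hx R).obj τ') ≫ eqToHom ht) ?_ ?_
  · rw [Functor.map_comp, Functor.map_comp, hj, hj']
    refine Eq.trans ?_ (congrArg (_ ≫ ·) (map_w D ((lowerMem x hx R).map m)).symm)
    simp [lowerMem]
    rfl
  · rw [Category.assoc, hj2', Category.assoc, ← Category.assoc (𝒴.p.map _)]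
    refine (Over.w m.hom).trans ?_
    rw [← hj2]
    exact congrArg (fun k => j ≫ k ≫ eqToHom ht) (t.nat ((lowerMem x hx R).map m)).symm

/-- The datum over `𝒳` attached to a datum over `C` and a cone of its image. -/
theorem exists_lower : ∃ (D' : Stk.sieveCat (liftSieve x hx R) ⥤ᵇ 𝒴)
    (e : ∀ τ, D'.obj τ ⟶ D.obj ((lowerMem x hx R).obj τ)),
    (∀ τ, IsIso (e τ)) ∧
    (∀ τ, 𝒳.p.map (𝒴.p.map (e τ)) =
      eqToHom ((congrArg 𝒳.p.obj (D'.w_obj τ)).trans (D.w_obj ((lowerMem x hx R).obj τ)).symm)) ∧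
    (∀ τ, 𝒴.p.map (e τ) ≫ t.ι ((lowerMem x hx R).obj τ) ≫ eqToHom ht = eqToHom (D'.w_obj τ) ≫ τ.obj.hom) ∧
    ∀ {τ τ'} (m : τ ⟶ τ'), D'.map m ≫ e τ' = e τ ≫ D.map ((lowerMem x hx R).map m) := by
  choose j hj hj2 using lowerHom_fac t ht
  choose a e ha he using fun τ => exists_lift_map h𝒴 _ (j τ)
  have hc : ∀ {τ τ' : (Stk.sieveCat (liftSieve x hx R)).obj} (m : τ ⟶ τ'),
      (eqToHom (ha τ) ≫ m.hom.left ≫ eqToHom (ha τ').symm) ≫ 𝒴.p.map (e τ') =
        𝒴.p.map (e τ ≫ D.map ((lowerMem x hx R).map m)) := fun {τ τ'} m => by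
    rw [Functor.map_comp, he, he]
    simp only [Category.assoc, eqToHom_trans_assoc, eqToHom_refl, Category.id_comp]
    exact congrArg _ (lowerHom_nat t ht m (hj τ) (hj2 τ) (hj τ') (hj2 τ'))
  let g : ∀ {τ τ' : (Stk.sieveCat (liftSieve x hx R)).obj}, (τ ⟶ τ') → (a τ ⟶ a τ') := fun {τ τ'} m =>
    facMap (𝒳 := 𝒴) (e τ') (e τ ≫ D.map ((lowerMem x hx R).map m)) _ (hc m)
  have hg : ∀ {τ τ' : (Stk.sieveCat (liftSieve x hx R)).obj} (m : τ ⟶ τ'),
      𝒴.p.map (g m) = eqToHom (ha τ) ≫ m.hom.left ≫ eqToHom (ha τ').symm := fun m => map_facMap _ _ _ _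
  have hgc : ∀ {τ τ' : (Stk.sieveCat (liftSieve x hx R)).obj} (m : τ ⟶ τ'),
      g m ≫ e τ' = e τ ≫ D.map ((lowerMem x hx R).map m) := fun m => facMap_comp _ _ _ _
  let D' : Stk.sieveCat (liftSieve x hx R) ⥤ᵇ 𝒴 :=
    { toFunctor :=
        { obj := a
          map := fun m => g m
          map_id := fun τ => hom_ext (𝒳 := 𝒴) (e τ) (by
            rw [hg, 𝒴.p.map_id]
            refine (congrArg (eqToHom (ha τ) ≫ ·) (Category.id_comp _)).trans ?_
            simp) (by rw [hgc, (lowerMem x hx R).map_id, D.toFunctor.map_id, Category.comp_id, Category.id_comp])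
          map_comp := fun {τ τ' τ''} m n => hom_ext (𝒳 := 𝒴) (e τ'') (by
            rw [hg, Functor.map_comp, hg, hg]
            simp
            exact congrArg (eqToHom (ha τ) ≫ ·) (Category.assoc _ _ _))
            (by rw [hgc, Category.assoc, hgc, ← Category.assoc, hgc, (lowerMem x hx R).map_comp,
              D.toFunctor.map_comp, Category.assoc]) }
      w := CategoryTheory.Functor.ext ha fun τ τ' m => hg m }
  have hv : ∀ τ, 𝒳.p.map (𝒴.p.map (e τ)) =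
      eqToHom ((congrArg 𝒳.p.obj (ha τ)).trans (D.w_obj ((lowerMem x hx R).obj τ)).symm) := fun τ => by
    rw [he, Functor.map_comp, eqToHom_map, hj]
    simp
  refine ⟨D', e, fun τ => ?_, hv, fun τ => ?_, fun m => hgc m⟩
  · have : IsIso (𝒳.p.map (j τ)) := by rw [hj]; infer_instance
    have : IsIso (j τ) := isIso_of_isIso_map _
    have : IsIso (𝒴.p.map (e τ)) := by rw [he]; infer_instance
    exact isIso_of_isIso_map (𝒳 := 𝒴) _
  · rw [he, Category.assoc]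
    exact congrArg _ (hj2 τ)

end Down

theorem isStack_tower [h𝒴 : FibCat.IsFibGrpd 𝒴.p] (J : GrothendieckTopology C) (hX : Stk.IsStack J 𝒳)
    (hY : Stk.IsStack (𝒳.p.restrictedTopology J) 𝒴) : Stk.IsStack J (tower 𝒴) := by
  have := isFibGrpd_tower (𝒳 := 𝒳) (𝒴 := 𝒴)
  refine isStack_iff.2 fun U R hR => ⟨fun D c c' => ?_, fun D => ?_⟩
  · obtain ⟨k, ⟨hk, hkι⟩, hku⟩ := (isStack_iff.1 hX R hR).1 _ (c.map (towerProj 𝒴)) (c'.map (towerProj 𝒴))
    obtain ⟨y, ψ, hy, hψ⟩ := exists_lift_map h𝒴 c'.pt k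
    have : IsIso k := isIso_of_vert k hk
    have : IsIso (𝒴.p.map ψ) := by rw [hψ]; infer_instance
    have : IsIso ψ := isIso_of_isIso_map (𝒳 := 𝒴) ψ
    have hxU : 𝒳.p.obj (𝒴.p.obj c.pt) = U := c.base
    obtain ⟨D', e, hei, hev, het, hen⟩ := exists_lower (x := 𝒴.p.obj c.pt) (hx := hxU) (R := R) (D := D)
      (c.map (towerProj 𝒴)) rfl
    obtain ⟨hYu, -⟩ := isStack_iff.1 hY _ (liftSieve_mem (𝒴.p.obj c.pt) hxU R J hR)
    have het' : ∀ τ, 𝒴.p.map (e τ ≫ c.ι ((lowerMem _ hxU R).obj τ)) = eqToHom (D'.w_obj τ) ≫ τ.obj.hom := fun τ => by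
      refine (Functor.map_comp _ _ _).trans ?_
      exact (congrArg _ (Category.comp_id _).symm).trans (het τ)
    let d : SCone D' :=
      { pt := c.pt, base := rfl, ι := fun τ => e τ ≫ c.ι ((lowerMem _ hxU R).obj τ),
        map_ι := fun τ => (het' τ).trans (by simp)
        nat := fun m => by
          rw [← Category.assoc, hen, Category.assoc]
          exact congrArg _ (c.nat _) }
    let d' : SCone D' :=
      { pt := y, base := hy, ι := fun τ => e τ ≫ c'.ι ((lowerMem _ hxU R).obj τ) ≫ inv ψ,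
        map_ι := fun τ => by
          have h1 : 𝒴.p.map (c'.ι ((lowerMem _ hxU R).obj τ)) = 𝒴.p.map (c.ι ((lowerMem _ hxU R).obj τ)) ≫ k :=
            (hkι _).symm
          refine Eq.trans ?_ ((congrArg (· ≫ eqToHom hy.symm) (het' τ)).trans (Category.assoc _ _ _))
          rw [Functor.map_comp, Functor.map_comp, Functor.map_comp, h1, Functor.map_inv, Category.assoc,
            Category.assoc]
          refine congrArg _ (congrArg _ ?_)
          rw [IsIso.comp_inv_eq, hψ]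
          simp
        nat := fun m => by
          rw [← Category.assoc, hen, Category.assoc, ← Category.assoc (D.map _)]
          exact congrArg (fun k => _ ≫ k ≫ inv ψ) (c'.nat _) }
    obtain ⟨h, ⟨hh, hhι⟩, hhu⟩ := hYu D' d d'
    have hιh : ∀ τ, c.ι ((lowerMem _ hxU R).obj τ) ≫ h ≫ ψ = c'.ι ((lowerMem _ hxU R).obj τ) := fun τ => by
      have h1 : (e τ ≫ c.ι ((lowerMem _ hxU R).obj τ)) ≫ h = e τ ≫ c'.ι ((lowerMem _ hxU R).obj τ) ≫ inv ψ := hhι τ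
      have := hei τ
      rw [← cancel_epi (e τ)]
      have h2 := congrArg (· ≫ ψ) h1
      simpa using h2
    have hk' : 𝒴.p.map (h ≫ ψ) = k := by
      rw [Functor.map_comp, hh, hψ]
      simp
    refine ⟨h ≫ ψ, ⟨(congrArg (fun m => 𝒳.p.map m) hk').trans hk, fun s => ?_⟩, fun h₂ ⟨h₂v, h₂ι⟩ => ?_⟩
    · exact cone_ext (ι := fun s => c.ι s ≫ h ≫ ψ) (fun m => (Category.assoc _ _ _).symm.trans
        (congrArg (· ≫ h ≫ ψ) (c.nat m))) (fun m => c'.nat m) hιh s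
    · have h₂k : 𝒴.p.map h₂ = k := hku _ ⟨h₂v, fun s => (Functor.map_comp _ _ _).symm.trans
        (congrArg (fun m => 𝒴.p.map m) (h₂ι s))⟩
      have : h₂ ≫ inv ψ = h := hhu _ ⟨?_, fun τ => ?_⟩
      · rw [← this]; simp
      · rw [Functor.map_comp, Functor.map_inv, h₂k, IsIso.comp_inv_eq, hψ]
        simp
      · exact (Category.assoc _ _ _).trans (congrArg (e τ ≫ ·) ((Category.assoc _ _ _).symm.trans
          (congrArg (· ≫ inv ψ) (h₂ι _))))
  · obtain ⟨t⟩ := (isStack_iff.1 hX R hR).2 (BasedFunctor.comp D (towerProj 𝒴))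
    obtain ⟨D', e, hei, hev, het, hen⟩ := exists_lower (x := t.pt) (hx := t.base) (R := R) (D := D) t rfl
    obtain ⟨-, hYg⟩ := isStack_iff.1 hY _ (liftSieve_mem t.pt t.base R J hR)
    obtain ⟨c'⟩ := hYg D'
    obtain ⟨c, -, -⟩ := cone_extend (x := t.pt) (hx := t.base) (D := D) (y := c'.pt)
      ((congrArg 𝒳.p.obj c'.base).trans t.base)
      (fun τ => inv (e τ) ≫ c'.ι τ) (fun τ => by
        rw [Functor.map_comp, Functor.map_comp, Functor.map_inv, Functor.map_inv, IsIso.inv_comp_eq, hev, c'.map_ι,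
          Functor.map_comp, Functor.map_comp, eqToHom_map, eqToHom_map]
        simp [lowerMem])
      (fun {τ τ'} m => by
        rw [← cancel_epi (e τ), IsIso.hom_inv_id_assoc, ← Category.assoc, ← hen, Category.assoc,
          IsIso.hom_inv_id_assoc]
        exact c'.nat m)
    exact ⟨c⟩

end Groth.Agent.RepOne
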