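import Groth.Agent.RepOne.DescTower
/-!
Descent for the upper floor of a tower `𝒴 ⟶ 𝒳 ⟶ C` from descent for the composite.
-/

set_option backward.isDefEq.respectTransparency false
set_option backward.isDefEq.respectTransparency.types false
set_option linter.unusedSectionVars false

universe v₃ u₃ v₂ u₂ v u

open CategoryTheory

namespace Groth.Agent.RepOne

open Groth.Agent.ASt

variable {C : Type u} [Category.{v} C] {𝒳 : BasedCategory.{v₂, u₂} C} {𝒴 : BasedCategory.{v₃, u₃} 𝒳.obj}
variable [h𝒳 : FibCat.IsFibGrpd 𝒳.p] [h𝒴 : FibCat.IsFibGrpd 𝒴.p]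
variable {U : C} (x : 𝒳.obj) (hx : 𝒳.p.obj x = U) (R : Sieve U)

theorem raiseMem_mem (s : (Stk.sieveCat R).obj) : liftSieve x hx R (pullHom x hx s.obj.hom) := by
  show R (𝒳.p.map (pullHom x hx s.obj.hom) ≫ eqToHom hx)
  rw [map_pullHom]
  simpa using R.downward_closed s.property (eqToHom (pull_base x hx s.obj.hom))

/-- Chosen pullbacks of `x` as members of the lifted sieve. -/
noncomputable def raiseMem : (Stk.sieveCat R).obj ⥤ (Stk.sieveCat (liftSieve x hx R)).obj where
  obj s := ⟨Over.mk (pullHom x hx s.obj.hom), raiseMem_mem x hx R s⟩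
  map m := ObjectProperty.homMk (Over.homMk (objMap x hx m.hom) (objMap_comp x hx m.hom))
  map_id s := sieve_hom_ext ((objFun x hx).toFunctor.map_id s.obj)
  map_comp m n := sieve_hom_ext ((objFun x hx).toFunctor.map_comp m.hom n.hom)

theorem toRaise_eq (τ : (Stk.sieveCat (liftSieve x hx R)).obj) :
    eqToHom (pull_base x hx ((lowerMem x hx R).obj τ).obj.hom).symm ≫
      𝒳.p.map (pullHom x hx ((lowerMem x hx R).obj τ).obj.hom) = 𝒳.p.map τ.obj.hom := by
  rw [map_pullHom]; simp [lowerMem]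

/-- A member of the lifted sieve and the chosen pullback along its image. -/
noncomputable def toRaise (τ : (Stk.sieveCat (liftSieve x hx R)).obj) :
    τ ⟶ (raiseMem x hx R).obj ((lowerMem x hx R).obj τ) :=
  ObjectProperty.homMk (Over.homMk
    (facMap (pullHom x hx ((lowerMem x hx R).obj τ).obj.hom) τ.obj.hom (eqToHom (pull_base x hx _).symm)
      (toRaise_eq x hx R τ))
    (facMap_comp _ _ _ _))

theorem toRaise_nat {τ τ' : (Stk.sieveCat (liftSieve x hx R)).obj} (m : τ ⟶ τ') :
    m ≫ toRaise x hx R τ' = toRaise x hx R τ ≫ (raiseMem x hx R).map ((lowerMem x hx R).map m) := by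
  refine sieve_hom_ext ?_
  have h1 : 𝒳.p.map (toRaise x hx R τ).hom.left = eqToHom (pull_base x hx _).symm :=
    map_facMap (pullHom x hx ((lowerMem x hx R).obj τ).obj.hom) τ.obj.hom (eqToHom (pull_base x hx _).symm) (toRaise_eq x hx R τ)
  have h2 : 𝒳.p.map (toRaise x hx R τ').hom.left = eqToHom (pull_base x hx _).symm :=
    map_facMap (pullHom x hx ((lowerMem x hx R).obj τ').obj.hom) τ'.obj.hom (eqToHom (pull_base x hx _).symm) (toRaise_eq x hx R τ')
  change m.hom.left ≫ (toRaise x hx R τ').hom.left =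
    (toRaise x hx R τ).hom.left ≫ objMap x hx ((lowerMem x hx R).map m).hom
  refine hom_ext (𝒳 := 𝒳) (pullHom x hx ((lowerMem x hx R).obj τ').obj.hom) ?_ ?_
  · rw [Functor.map_comp, Functor.map_comp, map_objMap, h1, h2]
    simp [lowerMem]
  · rw [Category.assoc, Category.assoc, objMap_comp]
    exact ((congrArg (m.hom.left ≫ ·) (Over.w (toRaise x hx R τ').hom)).trans (Over.w m.hom)).trans
      (Over.w (toRaise x hx R τ).hom).symm

variable {x hx R} (D' : Stk.sieveCat (liftSieve x hx R) ⥤ᵇ 𝒴)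

/-- The datum over `C` attached to a datum over `𝒳`. -/
noncomputable def raiseDatum : Stk.sieveCat R ⥤ᵇ tower 𝒴 where
  toFunctor := raiseMem x hx R ⋙ D'.toFunctor
  w := CategoryTheory.Functor.ext
    (fun s => (congrArg 𝒳.p.obj (D'.w_obj ((raiseMem x hx R).obj s))).trans (pull_base x hx s.obj.hom))
    fun s t m => by
      change 𝒳.p.map (𝒴.p.map (D'.map ((raiseMem x hx R).map m))) = _
      rw [map_w D' ((raiseMem x hx R).map m), Functor.map_comp, Functor.map_comp, eqToHom_map, eqToHom_map]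
      change eqToHom _ ≫ 𝒳.p.map (objMap x hx m.hom) ≫ eqToHom _ = eqToHom _ ≫ m.hom.left ≫ eqToHom _
      simp

variable {D'}

theorem map_down (d : SCone D') (s : (Stk.sieveCat R).obj) :
    𝒴.p.map (d.ι ((raiseMem x hx R).obj s)) =
      eqToHom (D'.w_obj _) ≫ pullHom x hx s.obj.hom ≫ eqToHom d.base.symm :=
  d.map_ι _

/-- A cone over `𝒳` as a cone over `C`. -/
noncomputable def downCone (d : SCone D') : SCone (raiseDatum D') where
  pt := d.pt
  base := (congrArg 𝒳.p.obj d.base).trans hx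
  ι s := d.ι ((raiseMem x hx R).obj s)
  map_ι s := by
    change 𝒳.p.map (𝒴.p.map (d.ι ((raiseMem x hx R).obj s))) = _
    rw [map_down d s, Functor.map_comp, Functor.map_comp, eqToHom_map, eqToHom_map, map_pullHom]
    simp
  nat m := d.nat ((raiseMem x hx R).map m)

/-- The tautological cone of the image. -/
noncomputable def baseCone : SCone (BasedFunctor.comp (raiseDatum D') (towerProj 𝒴)) where
  pt := x
  base := hx
  ι s := eqToHom (D'.w_obj ((raiseMem x hx R).obj s)) ≫ pullHom x hx s.obj.hom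
  map_ι s := by
    rw [Functor.map_comp, eqToHom_map, map_pullHom]
    simp
  nat {s t} m := by
    change 𝒴.p.map (D'.map ((raiseMem x hx R).map m)) ≫ eqToHom _ ≫ pullHom x hx t.obj.hom = _
    rw [map_w D' ((raiseMem x hx R).map m)]
    simp only [Category.assoc, eqToHom_trans_assoc, eqToHom_refl, Category.id_comp]
    exact congrArg (fun j => eqToHom _ ≫ j) (objMap_comp x hx m.hom)

theorem isStackFor_of_tower (hX : SConeUniq R 𝒳) (hT : SConeUniq R (tower 𝒴) ∧ SGlue R (tower 𝒴)) :
    SConeUniq (liftSieve x hx R) 𝒴 ∧ SGlue (liftSieve x hx R) 𝒴 := by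
  have := isFibGrpd_tower (𝒳 := 𝒳) (𝒴 := 𝒴)
  refine ⟨fun D' d d' => ?_, fun D' => ?_⟩
  · obtain ⟨h, ⟨hh, hι⟩, hu⟩ := hT.1 _ (downCone d) (downCone d')
    have hv : 𝒴.p.map h = eqToHom (d.base.trans d'.base.symm) := by
      refine (hX _ ((downCone d).map (towerProj 𝒴)) ((downCone d').map (towerProj 𝒴))).unique
        ⟨hh, fun s => (Functor.map_comp _ _ _).symm.trans (congrArg (fun m => 𝒴.p.map m) (hι s))⟩ ⟨?_, fun s => ?_⟩
      · exact eqToHom_map 𝒳.p _
      · exact (congrArg (· ≫ _) (map_down d s)).trans (((Category.assoc _ _ _).trans (congrArg _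
          ((Category.assoc _ _ _).trans (congrArg _ (eqToHom_trans _ _))))).trans (map_down d' s).symm)
    refine ⟨h, ⟨hv, fun τ => ?_⟩, fun h' ⟨hh', hι'⟩ => hu h' ⟨?_, fun s => hι' _⟩⟩
    · rw [← d.nat (toRaise x hx R τ), ← d'.nat (toRaise x hx R τ), Category.assoc]
      exact congrArg _ (hι _)
    · change 𝒳.p.map (𝒴.p.map h') = _
      rw [hh', eqToHom_map]
  · obtain ⟨c⟩ := hT.2 (raiseDatum D')
    obtain ⟨k, ⟨hk, hkι⟩, -⟩ := hX _ (c.map (towerProj 𝒴)) baseCone
    have : IsIso k := isIso_of_vert k hk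
    obtain ⟨y, ψ, hy, hψ⟩ := exists_lift_map h𝒴 c.pt (inv k)
    have : IsIso (𝒴.p.map ψ) := by rw [hψ]; infer_instance
    have : IsIso ψ := isIso_of_isIso_map (𝒳 := 𝒴) ψ
    have hq : ∀ s, 𝒴.p.map (c.ι s ≫ inv ψ) =
        eqToHom (D'.w_obj ((raiseMem x hx R).obj s)) ≫ pullHom x hx s.obj.hom ≫ eqToHom hy.symm := fun s => by
      have h1 : 𝒴.p.map (c.ι s) ≫ k = eqToHom (D'.w_obj ((raiseMem x hx R).obj s)) ≫ pullHom x hx s.obj.hom := hkι s
      rw [Functor.map_comp, Functor.map_inv, IsIso.comp_inv_eq, hψ, Category.assoc, Category.assoc,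
        eqToHom_trans_assoc, eqToHom_refl, Category.id_comp, ← Category.assoc, ← h1, Category.assoc]
      exact ((Category.comp_id _).symm.trans (congrArg _ (IsIso.hom_inv_id k).symm))
    refine ⟨{ pt := y, base := hy,
              ι := fun τ => D'.map (toRaise x hx R τ) ≫ c.ι ((lowerMem x hx R).obj τ) ≫ inv ψ,
              map_ι := fun τ => ?_, nat := fun {τ τ'} m => ?_ }⟩
    · refine (Functor.map_comp _ _ _).trans ?_
      rw [map_w D' (toRaise x hx R τ)]
      refine (congrArg (_ ≫ ·) (hq _)).trans ?_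
      simp only [Category.assoc, eqToHom_trans_assoc, eqToHom_refl, Category.id_comp]
      exact congrArg (fun j => eqToHom _ ≫ j) ((Category.assoc _ _ _).symm.trans
        (congrArg (· ≫ eqToHom hy.symm) (Over.w (toRaise x hx R τ).hom)))
    · rw [← Category.assoc, ← D'.toFunctor.map_comp, toRaise_nat, D'.toFunctor.map_comp, Category.assoc,
        ← Category.assoc (D'.map ((raiseMem x hx R).map _))]
      exact congrArg (fun j => _ ≫ j ≫ inv ψ) (c.nat ((lowerMem x hx R).map m))

theorem isStack_of_tower (J : GrothendieckTopology C) (hX : Stk.IsStack J 𝒳) (hT : Stk.IsStack J (tower 𝒴)) :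
    Stk.IsStack (𝒳.p.restrictedTopology J) 𝒴 := by
  refine isStack_iff.2 fun x R' hR' => ?_
  rw [mem_restrictedTopology_iff h𝒳] at hR'
  rw [eq_liftSieve x R']
  have := isFibGrpd_tower (𝒳 := 𝒳) (𝒴 := 𝒴)
  exact isStackFor_of_tower (isStack_iff.1 hX _ hR').1 (isStack_iff.1 hT _ hR')

end Groth.Agent.RepOne
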