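import Groth.Agent.RepOne.Basic
import Groth.Prelude.Def_W4stkcategoriessitesFib
/-!
Elementary facts about categories fibred in groupoids over a base.
-/

set_option backward.isDefEq.respectTransparency false
set_option backward.isDefEq.respectTransparency.types false
set_option linter.unusedSectionVars false

universe v₄ u₄ v₃ u₃ v₂ u₂ v u

open CategoryTheory CategoryTheory.Limits

namespace Groth.Agent.RepOne

open Groth.Agent.ASt

variable {C : Type u} [Category.{v} C]
variable {𝒳 : BasedCategory.{v₂, u₂} C} {𝒴 : BasedCategory.{v₃, u₃} C}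

/-- A morphism of a fibre from a vertical morphism. -/
def vertHom {U : C} {a b : 𝒳.obj} (ha : 𝒳.p.obj a = U) (hb : 𝒳.p.obj b = U) (φ : a ⟶ b)
    (h : 𝒳.p.map φ = eqToHom (ha.trans hb.symm)) :
    (Functor.Fiber.mk ha : 𝒳.p.Fiber U) ⟶ Functor.Fiber.mk hb :=
  ⟨φ, isHomLift_id_of_map φ ha (e := ha.trans hb.symm) h⟩

theorem fiber_map {U : C} {a b : 𝒳.p.Fiber U} (φ : a ⟶ b) :
    𝒳.p.map φ.1 = eqToHom (a.2.trans b.2.symm) := by
  have := φ.2
  exact map_of_isHomLift_id (R := U) φ.1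

theorem isFibGrpd_iff {S : Type u₂} [Category.{v₂} S] (p : S ⥤ C) :
    FibCat.IsFibGrpd p ↔ (p.IsFibered ∧ ∀ U : C, IsGroupoid (p.Fiber U)) := by
  constructor
  · intro h
    have hs : ∀ {R T : C} (f : R ⟶ T) {a b : S} (φ : a ⟶ b) [p.IsHomLift f φ], p.IsStronglyCartesian f φ := by
      intro R T f a b φ hφ
      subst_hom_lift p f φ
      exact h.isStronglyCartesian φ
    refine ⟨Functor.IsFibered.of_exists_isStronglyCartesian fun a R f => ?_, fun U => ⟨fun {a b} φ => ?_⟩⟩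
    · obtain ⟨y, φ, hφ⟩ := h.exists_lift f
      exact ⟨y, φ, hs f φ⟩
    · have := φ.2
      have := hs (𝟙 U) φ.1
      have : IsIso φ.1 := Functor.IsStronglyCartesian.isIso_of_base_isIso p (𝟙 U) φ.1
      have hl : p.IsHomLift (𝟙 U) (inv φ.1) := inferInstance
      exact ⟨⟨inv φ.1, hl⟩, Subtype.ext (IsIso.hom_inv_id φ.1), Subtype.ext (IsIso.inv_hom_id φ.1)⟩
  · rintro ⟨hf, hg⟩
    refine ⟨fun {x V} f => ⟨_, Functor.IsPreFibered.pullbackMap rfl f, inferInstance⟩, fun {y x} φ => ?_⟩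
    let ψ := Functor.IsPreFibered.pullbackMap (p := p) (rfl : p.obj x = _) (p.map φ)
    let χ := Functor.IsCartesian.map p (p.map φ) ψ φ
    have hχ : p.IsHomLift (𝟙 (p.obj y)) χ := inferInstance
    have hb := IsHomLift.codomain_eq p (𝟙 (p.obj y)) χ
    let χ' : (Functor.Fiber.mk (p := p) (rfl : p.obj y = p.obj y)) ⟶ Functor.Fiber.mk hb := ⟨χ, hχ⟩
    have hi : IsIso χ' := (hg _).all_isIso χ'
    have : IsIso χ :=
      ⟨(inv χ').1, congrArg Subtype.val (IsIso.hom_inv_id χ'), congrArg Subtype.val (IsIso.inv_hom_id χ')⟩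
    have h1 : p.IsStronglyCartesian (𝟙 (p.obj y) ≫ p.map φ) (χ ≫ ψ) := inferInstance
    rw [Category.id_comp, Functor.IsCartesian.fac] at h1
    exact h1

section Fibre

variable [h𝒳 : FibCat.IsFibGrpd 𝒳.p] [h𝒴 : FibCat.IsFibGrpd 𝒴.p] (G : 𝒳 ⥤ᵇ 𝒴)

theorem faithful_iff_fibre :
    G.toFunctor.Faithful ↔ ∀ U : C, (FibCat.fiberFunctor G U).Faithful := by
  constructor
  · intro h U
    exact ⟨fun {a b f g} e => Subtype.ext (G.toFunctor.map_injective (congrArg Subtype.val e :))⟩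
  · intro h
    refine ⟨fun {x y a b} e => ?_⟩
    let k := 𝒳.p.map a
    have hk : 𝒳.p.map b = k := (map_inj_w G e).symm
    let a' := facMap (pullHom y rfl k) a (eqToHom (pull_base y rfl k).symm) (by simp [k])
    let b' := facMap (pullHom y rfl k) b (eqToHom (pull_base y rfl k).symm) (by simp [hk])
    have he : G.map a' = G.map b' := hom_ext (G.map (pullHom y rfl k)) (by simp [map_w, a', b'])
      (by rw [← G.map_comp, ← G.map_comp, facMap_comp, facMap_comp, e])
    have he' : (FibCat.fiberFunctor G (𝒳.p.obj x)).map (vertHom rfl (pull_base y rfl k) a' (map_facMap _ _ _ _)) =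
        (FibCat.fiberFunctor G (𝒳.p.obj x)).map (vertHom rfl (pull_base y rfl k) b' (map_facMap _ _ _ _)) :=
      Subtype.ext he
    have hab : a' = b' := congrArg Subtype.val ((FibCat.fiberFunctor G _).map_injective he')
    rw [← facMap_comp (pullHom y rfl k) a (eqToHom (pull_base y rfl k).symm) (by simp [k])]
    change a' ≫ _ = b
    rw [hab, facMap_comp]

theorem fullyFaithful_iff_fibre :
    (G.toFunctor.Full ∧ G.toFunctor.Faithful) ↔
      ∀ U : C, (FibCat.fiberFunctor G U).Full ∧ (FibCat.fiberFunctor G U).Faithful := by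
  constructor
  · rintro ⟨hf, hff⟩ U
    refine ⟨⟨fun {a b} m => ?_⟩, (faithful_iff_fibre G).1 hff U⟩
    obtain ⟨n, hn⟩ := G.toFunctor.map_surjective m.1
    have h1 : 𝒴.p.IsHomLift (𝟙 U) (G.map n) := by rw [hn]; exact m.2
    exact ⟨⟨n, (BasedFunctor.isHomLift_iff G (𝟙 U) n).1 h1⟩, Subtype.ext hn⟩
  · intro h
    refine ⟨⟨fun {a b} m => ?_⟩, (faithful_iff_fibre G).2 fun U => (h U).2⟩
    let k := eqToHom (G.w_obj a).symm ≫ 𝒴.p.map m ≫ eqToHom (G.w_obj b)
    let b' := pull b rfl k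
    let i := facMap (G.map (pullHom b rfl k)) m
      (eqToHom ((G.w_obj a).trans ((pull_base b rfl k).symm.trans (G.w_obj b').symm))) (by simp [map_w, k, b'])
    have hf := (h (𝒳.p.obj a)).1
    obtain ⟨i', hi'⟩ := (FibCat.fiberFunctor G (𝒳.p.obj a)).map_surjective
      (X := Functor.Fiber.mk rfl) (Y := Functor.Fiber.mk (pull_base b rfl k))
      (vertHom (G.w_obj a) ((G.w_obj b').trans (pull_base b rfl k)) i (map_facMap _ _ _ _))
    refine ⟨i'.1 ≫ pullHom b rfl k, ?_⟩
    rw [G.map_comp, show G.map i'.1 = i from congrArg Subtype.val hi']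
    exact facMap_comp _ _ _ _

theorem equivalence_iff_fibre :
    G.toFunctor.IsEquivalence ↔ ∀ U : C, (FibCat.fiberFunctor G U).IsEquivalence := by
  constructor
  · intro h U
    have hff := (fullyFaithful_iff_fibre G).1 ⟨inferInstance, inferInstance⟩ U
    have := hff.1; have := hff.2
    have : (FibCat.fiberFunctor G U).EssSurj := ⟨fun y => by
      let e := G.toFunctor.objObjPreimageIso y.1
      let x₀ := G.toFunctor.objPreimage y.1
      let k : U ⟶ 𝒳.p.obj x₀ := eqToHom y.2.symm ≫ 𝒴.p.map e.inv ≫ eqToHom (G.w_obj x₀)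
      let x := pull x₀ rfl k
      let φ : G.obj x ⟶ y.1 := G.map (pullHom x₀ rfl k) ≫ e.hom
      have hφ : 𝒴.p.map φ = eqToHom (((G.w_obj x).trans (pull_base x₀ rfl k)).trans y.2.symm) := by
        simp [φ, map_w, k, x, x₀, e]
      have := isIso_of_vert φ hφ
      exact ⟨⟨x, pull_base x₀ rfl k⟩, ⟨{
        hom := vertHom ((G.w_obj x).trans (pull_base x₀ rfl k)) y.2 φ hφ
        inv := vertHom y.2 ((G.w_obj x).trans (pull_base x₀ rfl k)) (inv φ) (by simp [hφ])
        hom_inv_id := Subtype.ext (IsIso.hom_inv_id φ)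
        inv_hom_id := Subtype.ext (IsIso.inv_hom_id φ) }⟩⟩⟩
    exact { }
  · intro h
    obtain ⟨hf, hff⟩ := (fullyFaithful_iff_fibre G).2 fun U => ⟨inferInstance, inferInstance⟩
    have : G.toFunctor.EssSurj := ⟨fun y => by
      let U := 𝒴.p.obj y
      have := h U
      let x := (FibCat.fiberFunctor G U).objPreimage (Functor.Fiber.mk rfl)
      exact ⟨x.1, ⟨Functor.Fiber.fiberInclusion.mapIso ((FibCat.fiberFunctor G U).objObjPreimageIso (Functor.Fiber.mk rfl))⟩⟩⟩
    exact { }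

theorem fullyFaithful_iff_diag :
    (G.toFunctor.Full ∧ G.toFunctor.Faithful) ↔ FibCat.IsEquivOver (FibCat.diag G) := by
  constructor
  · rintro ⟨hf, hff⟩
    have : (FibCat.diag G).toFunctor.Faithful := ⟨fun h => congrArg (fun k => k.hom.fst) h⟩
    have : (FibCat.diag G).toFunctor.Full := ⟨fun {a b} h => by
      have w1 : G.map h.hom.fst = G.map h.hom.snd :=
        (Category.comp_id _).symm.trans (h.hom.w.trans (Category.id_comp _))
      exact ⟨h.hom.fst, fp_hom_ext rfl (G.toFunctor.map_injective w1)⟩⟩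
    refine isEquivOver_of_vert _ fun z => ?_
    let j : z.obj.fst ≅ z.obj.snd := G.toFunctor.preimageIso z.obj.iso
    refine ⟨z.obj.fst, rfl, fpIsoMk (Iso.refl _) j ?_, (𝒳.p.map_id _).trans rfl⟩
    change G.map (𝟙 _) ≫ z.obj.iso.hom = 𝟙 _ ≫ G.map j.hom
    simp [j]
  · intro h
    obtain ⟨hd, -, hv⟩ := vert_of_isEquivOver h
    have hfaith : G.toFunctor.Faithful := ⟨fun {x y a b} e => by
      let m : (FibCat.diag G).obj x ⟶ (FibCat.diag G).obj y := fpHomMk a b
        ((Category.comp_id _).trans (e.trans (Category.id_comp _).symm))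
      obtain ⟨c, hc⟩ := (FibCat.diag G).toFunctor.map_surjective m
      have h1 : c = a := congrArg (fun k => k.hom.fst) hc
      have h2 : c = b := congrArg (fun k => k.hom.snd) hc
      exact h1.symm.trans h2⟩
    refine ⟨⟨fun {a b} m => ?_⟩, hfaith⟩
    let k := eqToHom (G.w_obj a).symm ≫ 𝒴.p.map m ≫ eqToHom (G.w_obj b)
    let b' := pull b rfl k
    let i := facMap (G.map (pullHom b rfl k)) m
      (eqToHom ((G.w_obj a).trans ((pull_base b rfl k).symm.trans (G.w_obj b').symm))) (by simp [map_w, k, b'])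
    have hi := map_facMap (G.map (pullHom b rfl k)) m
      (eqToHom ((G.w_obj a).trans ((pull_base b rfl k).symm.trans (G.w_obj b').symm))) (by simp [map_w, k, b'])
    have := isIso_of_vert i hi
    let z : (FibCat.fp G G).obj := fpMk a b' (pull_base b rfl k) (asIso i) hi
    obtain ⟨w, -, e, -⟩ := hv z
    let j₁ : w ≅ a := (FibCat.fpFst G G).toFunctor.mapIso e
    let j₂ : w ≅ b' := (FibCat.fpSnd G G).toFunctor.mapIso e
    have hw : G.map j₁.hom ≫ i = G.map j₂.hom := e.hom.hom.w.trans (Category.id_comp _)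
    refine ⟨(j₁.inv ≫ j₂.hom) ≫ pullHom b rfl k, ?_⟩
    rw [G.map_comp, G.map_comp, ← hw, ← Category.assoc (G.map j₁.inv), ← G.map_comp, Iso.inv_hom_id,
      G.map_id, Category.id_comp]
    exact facMap_comp _ _ _ _

end Fibre

section Setoid

theorem isIso_fiber [h𝒳 : FibCat.IsFibGrpd 𝒳.p] {U : C} {a b : 𝒳.p.Fiber U} (φ : a ⟶ b) : IsIso φ :=
  (((isFibGrpd_iff 𝒳.p).1 h𝒳).2 U).all_isIso φ

theorem faithful_of_thin [h𝒳 : FibCat.IsFibGrpd 𝒳.p] (h : ∀ U : C, Quiver.IsThin (𝒳.p.Fiber U)) :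
    𝒳.p.Faithful := by
  refine ⟨fun {y x a b} e => ?_⟩
  let χ := facMap b a (𝟙 (𝒳.p.obj y)) (by simp [e])
  have hc : χ = 𝟙 y := by
    have := (h (𝒳.p.obj y)) (Functor.Fiber.mk rfl) (Functor.Fiber.mk rfl)
    exact congrArg Subtype.val (Subsingleton.elim (vertHom rfl rfl χ ((map_facMap _ _ _ _).trans rfl))
      (𝟙 (Functor.Fiber.mk (p := 𝒳.p) (rfl : 𝒳.p.obj y = _))))
  have := facMap_comp b a (𝟙 (𝒳.p.obj y)) (by simp [e])
  change χ ≫ b = a at this
  rw [← this, hc, Category.id_comp]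

theorem thin_of_inertia [h𝒳 : FibCat.IsFibGrpd 𝒳.p]
    (h : FibCat.IsEquivOver (FibCat.inertiaToBase (FibCat.toSelf 𝒳))) (U : C) :
    Quiver.IsThin (𝒳.p.Fiber U) := by
  intro x y
  refine ⟨fun a b => ?_⟩
  obtain ⟨hf, -, -⟩ := vert_of_isEquivOver h
  have := isIso_fiber b
  let c := a ≫ inv b
  have := isIso_fiber c
  let α : x.1 ≅ x.1 := Functor.Fiber.fiberInclusion.mapIso (asIso c)
  have hα : 𝒳.p.map α.hom = 𝟙 (𝒳.p.obj x.1) := (fiber_map c).trans (by simp)
  let P : (FibCat.inertia (FibCat.toSelf 𝒳)).obj := ⟨x.1, α, hα⟩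
  let Q : (FibCat.inertia (FibCat.toSelf 𝒳)).obj := ⟨x.1, Iso.refl _, 𝒳.p.map_id _⟩
  obtain ⟨m, hm⟩ := (FibCat.inertiaToBase (FibCat.toSelf 𝒳)).toFunctor.map_surjective
    (X := P) (Y := Q) (𝟙 x.1)
  have hm' : m.hom = 𝟙 x.1 := hm
  have hcc : c.1 = 𝟙 x.1 := by
    have h1 := m.comm
    rw [hm'] at h1
    exact (Category.comp_id _).symm.trans (h1.trans (Category.id_comp _))
  have hc : c = 𝟙 x := Subtype.ext hcc
  rw [← Category.id_comp b, ← hc]
  simp [c]

end Setoid

section Eval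

variable [h𝒳 : FibCat.IsFibGrpd 𝒳.p]

theorem isEquivalence_evalAtId (U : C) : (FibCat.evalAtId 𝒳 U).IsEquivalence := by
  have : (FibCat.evalAtId 𝒳 U).Faithful := ⟨fun {G H α β} e => by
    have e' : α.toNatTrans.app (ov (𝟙 U)) = β.toNatTrans.app (ov (𝟙 U)) := congrArg Subtype.val e
    refine BasedNatTrans.ext _ _ (NatTrans.ext (funext fun g => hom_ext (H.map (toTop g)) ?_ ?_))
    · rw [map_app, map_app]
    · rw [← α.toNatTrans.naturality, ← β.toNatTrans.naturality, e']⟩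
  have : (FibCat.evalAtId 𝒳 U).Full := ⟨fun {G H} a => by
    have ha : 𝒳.p.map a.1 = eqToHom ((G.w_obj _).trans (H.w_obj _).symm) := fiber_map a
    refine ⟨(funIso a.1 ha).hom, Subtype.ext ?_⟩
    have h1 := funIso_app a.1 ha (ov (𝟙 U))
    have e : toTop (ov (𝟙 U)) = 𝟙 _ := Over.OverMorphism.ext rfl
    rw [e, H.map_id, G.map_id, Category.comp_id, Category.id_comp] at h1
    exact h1⟩
  have : (FibCat.evalAtId 𝒳 U).EssSurj := ⟨fun x => by
    let φ := vertHom (pull_base x.1 x.2 (𝟙 U)) x.2 (pullHom x.1 x.2 (𝟙 U))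
      (by simp)
    have := isIso_fiber φ
    exact ⟨objFun x.1 x.2, ⟨asIso φ⟩⟩⟩
  exact { }

end Eval

section ToSlice

theorem eqToHom_left {U : C} {A B : (FibCat.overCat U).obj} (h : A = B) :
    (eqToHom h).left = eqToHom (congrArg (fun a : (FibCat.overCat U).obj => a.left) h) := by
  subst h; rfl

theorem isFibGrpd_toOver [h𝒳 : FibCat.IsFibGrpd 𝒳.p] {U : C} (q : 𝒳 ⥤ᵇ FibCat.overCat U) :
    FibCat.IsFibGrpd q.toFunctor := by
  refine ⟨fun {x V} f => ?_, fun {y x} φ => ?_⟩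
  · let k : V.left ⟶ 𝒳.p.obj x := f.left ≫ eqToHom (q.w_obj x)
    let y := pull x rfl k
    let φ := pullHom x rfl k
    have hl : (q.obj y).left = V.left := (q.w_obj y).trans (pull_base x rfl k)
    have hm : (q.map φ).left = eqToHom hl ≫ f.left := by
      refine (map_w q φ).trans ?_
      simp [φ, k, y]
    have hobj : q.obj y = V := by
      refine CostructuredArrow.obj_ext _ _ hl ?_
      have := Over.w (q.map φ)
      rw [hm, Category.assoc, Over.w f] at this
      exact this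
    refine ⟨y, φ, IsHomLift.of_fac' q.toFunctor f φ hobj rfl ?_⟩
    apply Over.OverMorphism.ext
    simp [Over.eqToHom_left, hm]
    rw [eqToHom_left]
  · refine { universal_property' := fun {z} g ψ hψ => ?_ }
    have hg : g ≫ q.map φ = q.map ψ := IsHomLift.eq_of_isHomLift q.toFunctor _ ψ
    let g' : 𝒳.p.obj z ⟶ 𝒳.p.obj y := eqToHom (q.w_obj z).symm ≫ g.left ≫ eqToHom (q.w_obj y)
    have e : g' ≫ 𝒳.p.map φ = 𝒳.p.map ψ := by
      have h1 : g.left ≫ (q.map φ).left = (q.map ψ).left := congrArg (fun t => t.left) hg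
      have h2 : (q.map φ).left = _ := map_w q φ
      have h3 : (q.map ψ).left = _ := map_w q ψ
      rw [h2, h3] at h1
      rw [← cancel_mono (eqToHom (q.w_obj x).symm), ← cancel_epi (eqToHom (q.w_obj z))]
      simpa [g'] using h1
    obtain ⟨χ, ⟨h1, h2⟩, hu⟩ := existsUnique_fac φ ψ g' e
    have hχ : q.map χ = g := by
      apply Over.OverMorphism.ext
      refine (map_w q χ).trans ?_
      rw [h1]
      simp [g']
    refine ⟨χ, ⟨hχ ▸ inferInstance, h2⟩, fun χ' ⟨hl, h3⟩ => hu χ' ⟨?_, h3⟩⟩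
    have h4 : g = q.map χ' := IsHomLift.eq_of_isHomLift q.toFunctor g χ'
    have h5 : g.left = _ := (congrArg (fun t => t.left) h4).trans (map_w q χ')
    simp [g', h5]

end ToSlice

end Groth.Agent.RepOne
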