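import Groth.Agent.RepOne.Cart
import Groth.Agent.RepOne.Slices
import Mathlib.CategoryTheory.Bicategory.Grothendieck
import Mathlib.CategoryTheory.Bicategory.Functor.LocallyDiscrete
/-!
Every fibred category is equivalent over the base to a split one: the strict functor sends `U` to
the category of cartesian functors from the slice over `U`.
-/

set_option backward.isDefEq.respectTransparency false
set_option backward.isDefEq.respectTransparency.types false
set_option linter.unusedSectionVars false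

universe v u

open CategoryTheory CategoryTheory.Limits Opposite

namespace Groth.Agent.RepOne.Split

open Groth.Agent.ASt

variable {C : Type u} [Category.{v} C] (𝒳 : BasedCategory.{v, max u v} C)

/-- Cartesian functors from a slice. -/
structure SObj (U : C) : Type (max u v) where
  fn : FibCat.overCat U ⥤ᵇ 𝒳
  cart : FibCat.PreservesStronglyCartesian fn

variable {𝒳}

theorem SObj.ext' {U : C} {G H : SObj 𝒳 U} (h : G.fn.toFunctor = H.fn.toFunctor) : G = H := by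
  obtain ⟨G, _⟩ := G
  obtain ⟨H, _⟩ := H
  obtain rfl := basedFunctor_ext h
  rfl

/-- The value at the terminal object of the slice. -/
def SObj.ev {U : C} (G : SObj 𝒳 U) : 𝒳.p.Fiber U := (FibCat.evalAtId 𝒳 U).obj G.fn

instance (U : C) : Category.{v} (SObj 𝒳 U) where
  Hom G H := G.ev ⟶ H.ev
  id G := 𝟙 G.ev
  comp a b := a ≫ b
  id_comp := Category.id_comp
  comp_id := Category.comp_id
  assoc := Category.assoc

theorem base_eq {U : C} (G H : SObj 𝒳 U) (g : (FibCat.overCat U).obj) :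
    𝒳.p.obj (G.fn.obj g) = 𝒳.p.obj (H.fn.obj g) :=
  (G.fn.w_obj g).trans (H.fn.w_obj g).symm

theorem map_val {U : C} {G H : SObj 𝒳 U} (a : G ⟶ H) :
    𝒳.p.map a.1 = eqToHom (base_eq G H (ov (𝟙 U))) :=
  fiber_map (a := G.ev) (b := H.ev) a

theorem val_id {U : C} (G : SObj 𝒳 U) : (𝟙 G : G ⟶ G).1 = 𝟙 (G.fn.obj (ov (𝟙 U))) := rfl

theorem val_comp {U : C} {G H K : SObj 𝒳 U} (a : G ⟶ H) (b : H ⟶ K) : (a ≫ b).1 = a.1 ≫ b.1 := rfl

theorem val_eqToHom {U : C} {G H : SObj 𝒳 U} (h : G = H) :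
    (eqToHom h).1 = eqToHom (congrArg (fun K : SObj 𝒳 U => K.fn.obj (ov (𝟙 U))) h) := by
  subst h; rfl

theorem hom_ext' {U : C} {G H : SObj 𝒳 U} {a b : G ⟶ H} (h : a.1 = b.1) : a = b := Subtype.ext h

theorem map_toTop_comp {U : C} (Z : SObj 𝒳 U) {g h : (FibCat.overCat U).obj} (m : g ⟶ h) :
    Z.fn.map m ≫ Z.fn.map (toTop h) = Z.fn.map (toTop g) := by
  rw [← Z.fn.map_comp]
  exact congrArg _ (Over.OverMorphism.ext (Over.w m))

theorem eqToHom_toTop {U : C} (Z : SObj 𝒳 U) {g h : (FibCat.overCat U).obj} (e : g = h) :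
    eqToHom (congrArg Z.fn.obj e) ≫ Z.fn.map (toTop h) = Z.fn.map (toTop g) := by
  subst e; simp

theorem map_toTop_top {U : C} (Z : SObj 𝒳 U) :
    Z.fn.map (toTop (ov (𝟙 U))) = 𝟙 (Z.fn.obj (ov (𝟙 U))) := by
  rw [show toTop (ov (𝟙 U)) = 𝟙 _ from Over.OverMorphism.ext rfl]
  exact Z.fn.map_id _

variable [𝒳.p.IsFibered]

theorem exists_compo {U : C} {G H : SObj 𝒳 U} (a : G ⟶ H) (g : (FibCat.overCat U).obj) :
    ∃ χ : G.fn.obj g ⟶ H.fn.obj g, 𝒳.p.map χ = eqToHom (base_eq G H g) ∧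
      χ ≫ H.fn.map (toTop g) = G.fn.map (toTop g) ≫ a.1 := by
  obtain ⟨χ, hχ, -⟩ := cart_fac (cart_toTop H.cart g) (G.fn.map (toTop g) ≫ a.1)
    (eqToHom (base_eq G H g)) (by simp [toTop_map, map_val a])
  exact ⟨χ, hχ⟩

/-- The component of a morphism at an object of the slice. -/
noncomputable def compo {U : C} {G H : SObj 𝒳 U} (a : G ⟶ H) (g : (FibCat.overCat U).obj) :
    G.fn.obj g ⟶ H.fn.obj g :=
  (exists_compo a g).choose

theorem compo_map {U : C} {G H : SObj 𝒳 U} (a : G ⟶ H) (g : (FibCat.overCat U).obj) :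
    𝒳.p.map (compo a g) = eqToHom (base_eq G H g) :=
  (exists_compo a g).choose_spec.1

theorem compo_fac {U : C} {G H : SObj 𝒳 U} (a : G ⟶ H) (g : (FibCat.overCat U).obj) :
    compo a g ≫ H.fn.map (toTop g) = G.fn.map (toTop g) ≫ a.1 :=
  (exists_compo a g).choose_spec.2

theorem compo_unique {U : C} {G H : SObj 𝒳 U} {a : G ⟶ H} {g : (FibCat.overCat U).obj}
    {χ : G.fn.obj g ⟶ H.fn.obj g} (h1 : 𝒳.p.map χ = eqToHom (base_eq G H g))
    (h2 : χ ≫ H.fn.map (toTop g) = G.fn.map (toTop g) ≫ a.1) : compo a g = χ :=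
  cart_ext (cart_toTop H.cart g) (by rw [compo_map, h1]) (by rw [compo_fac, h2])

theorem compo_congr {U : C} {G H : SObj 𝒳 U} (a : G ⟶ H) {g h : (FibCat.overCat U).obj} (e : g = h) :
    compo a g = eqToHom (congrArg G.fn.obj e) ≫ compo a h ≫ eqToHom (congrArg H.fn.obj e).symm := by
  subst e; simp

theorem compo_top {U : C} {G H : SObj 𝒳 U} (a : G ⟶ H) : compo a (ov (𝟙 U)) = a.1 :=
  compo_unique (map_val a) (by
    rw [map_toTop_top, map_toTop_top]
    exact (Category.comp_id _).trans (Category.id_comp _).symm)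

theorem compo_id {U : C} (G : SObj 𝒳 U) (g : (FibCat.overCat U).obj) : compo (𝟙 G) g = 𝟙 _ :=
  compo_unique (by simp) (by
    rw [val_id]
    exact (Category.id_comp _).trans (Category.comp_id _).symm)

theorem compo_comp {U : C} {G H K : SObj 𝒳 U} (a : G ⟶ H) (b : H ⟶ K) (g : (FibCat.overCat U).obj) :
    compo (a ≫ b) g = compo a g ≫ compo b g :=
  compo_unique (by simp [compo_map]) (by
    rw [Category.assoc, compo_fac, ← Category.assoc, compo_fac, val_comp, Category.assoc])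

section Restr

/-- Restriction of an object along a morphism of the base. -/
def restrObj {U V : C} (f : V ⟶ U) (G : SObj 𝒳 U) : SObj 𝒳 V where
  fn := BasedFunctor.comp (mapF f) G.fn
  cart R T k a b φ h := by
    have := h.toIsHomLift
    have h1 : (FibCat.overCat U).p.IsHomLift k ((mapF f).map φ) := BasedFunctor.preserves_isHomLift (mapF f) k φ
    exact G.cart k _ (cart_congr ((isFibGrpd_overCat U).isStronglyCartesian _)
      (IsHomLift.domain_eq (FibCat.overCat U).p k ((mapF f).map φ))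
      (IsHomLift.codomain_eq (FibCat.overCat U).p k ((mapF f).map φ))
      (IsHomLift.fac' (FibCat.overCat U).p k ((mapF f).map φ)))

/-- Restriction along a morphism of the base. -/
noncomputable def restr {U V : C} (f : V ⟶ U) : SObj 𝒳 U ⥤ SObj 𝒳 V where
  obj := restrObj f
  map {G H} a := vertHom ((restrObj f G).fn.w_obj (ov (𝟙 V))) ((restrObj f H).fn.w_obj (ov (𝟙 V)))
    (compo a ((mapF f).obj (ov (𝟙 V)))) (compo_map a _)
  map_id G := hom_ext' (compo_id G _)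
  map_comp a b := hom_ext' (compo_comp a b _)

theorem restr_map_val {U V : C} (f : V ⟶ U) {G H : SObj 𝒳 U} (a : G ⟶ H) :
    ((restr f).map a).1 = compo a ((mapF f).obj (ov (𝟙 V))) := rfl

theorem compo_restr {U V : C} (f : V ⟶ U) {G H : SObj 𝒳 U} (a : G ⟶ H) (g : (FibCat.overCat V).obj) :
    compo ((restr f).map a) g = compo a ((mapF f).obj g) := by
  refine compo_unique (compo_map a _) ?_
  change compo a ((mapF f).obj g) ≫ H.fn.map ((mapF f).map (toTop g)) =
    G.fn.map ((mapF f).map (toTop g)) ≫ compo a ((mapF f).obj (ov (𝟙 V)))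
  refine cart_ext (cart_toTop H.cart _) ?_ ?_
  · simp [compo_map, map_w]
  · rw [Category.assoc, map_toTop_comp, Category.assoc, compo_fac, compo_fac, ← Category.assoc,
      map_toTop_comp]

theorem restrObj_id {U : C} (G : SObj 𝒳 U) : restrObj (𝟙 U) G = G :=
  SObj.ext' (by
    change Over.map (𝟙 U) ⋙ G.fn.toFunctor = G.fn.toFunctor
    rw [Over.mapId_eq, Functor.id_comp])

theorem restrObj_comp {U V W : C} (f : V ⟶ U) (g : W ⟶ V) (G : SObj 𝒳 U) :
    restrObj (g ≫ f) G = restrObj g (restrObj f G) :=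
  SObj.ext' (by
    change Over.map (g ≫ f) ⋙ G.fn.toFunctor = Over.map g ⋙ Over.map f ⋙ G.fn.toFunctor
    rw [Over.mapComp_eq, Functor.assoc])

theorem restr_id (U : C) : restr (𝒳 := 𝒳) (𝟙 U) = 𝟭 _ :=
  CategoryTheory.Functor.ext restrObj_id fun G H a => hom_ext' (by
    have e : (mapF (𝟙 U)).obj (ov (𝟙 U)) = ov (𝟙 U) := Functor.congr_obj (Over.mapId_eq U) _
    rw [val_comp, val_comp, val_eqToHom, val_eqToHom, restr_map_val]
    refine (compo_congr a e).trans ?_
    rw [compo_top]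
    rfl)

theorem restr_comp {U V W : C} (f : V ⟶ U) (g : W ⟶ V) :
    restr (𝒳 := 𝒳) (g ≫ f) = restr f ⋙ restr g :=
  CategoryTheory.Functor.ext (restrObj_comp f g) fun G H a => hom_ext' (by
    have e : (mapF (g ≫ f)).obj (ov (𝟙 W)) = (mapF f).obj ((mapF g).obj (ov (𝟙 W))) :=
      Functor.congr_obj (Over.mapComp_eq g f) _
    rw [val_comp, val_comp, val_eqToHom, val_eqToHom, restr_map_val, Functor.comp_map, restr_map_val,
      compo_restr]
    exact compo_congr a e)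

variable (𝒳)

/-- The strict functor underlying the splitting. -/
noncomputable def splitF : Cᵒᵖ ⥤ Cat.{v, max u v} where
  obj U := Cat.of (SObj 𝒳 U.unop)
  map f := (restr f.unop).toCatHom
  map_id U := Cat.Hom.ext (restr_id U.unop)
  map_comp f g := Cat.Hom.ext (restr_comp f.unop g.unop)

end Restr

variable (𝒳) in
/-- The split fibred category. -/
noncomputable abbrev splitCat : BasedCategory.{v, max u v} C :=
  BasedCategory.ofFunctor (Pseudofunctor.CoGrothendieck.forget (splitF 𝒳).toPseudofunctor')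

theorem ov_map {U V : C} (f : V ⟶ U) : ((mapF f).obj (ov (𝟙 V))).hom = f := Category.id_comp f

/-- The fibre component of an object of the split category. -/
def fib (X : (splitCat 𝒳).obj) : SObj 𝒳 (Pseudofunctor.CoGrothendieck.base X) :=
  Pseudofunctor.CoGrothendieck.fiber X

/-- The base component of a morphism of the split category. -/
def bm {X Y : (splitCat 𝒳).obj} (φ : X ⟶ Y) :
    Pseudofunctor.CoGrothendieck.base X ⟶ Pseudofunctor.CoGrothendieck.base Y :=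
  Pseudofunctor.CoGrothendieck.Hom.base φ

/-- The fibre component of a morphism of the split category. -/
def fm {X Y : (splitCat 𝒳).obj} (φ : X ⟶ Y) : fib X ⟶ restrObj (bm φ) (fib Y) :=
  Pseudofunctor.CoGrothendieck.Hom.fiber φ

theorem bm_id (X : (splitCat 𝒳).obj) : bm (𝟙 X) = 𝟙 _ := rfl

theorem bm_comp {X Y Z : (splitCat 𝒳).obj} (φ : X ⟶ Y) (ψ : Y ⟶ Z) : bm (φ ≫ ψ) = bm φ ≫ bm ψ := rfl

theorem eqToIso_inv_app {A B : Cat.{v, max u v}} {P Q : A ⟶ B} (h : P = Q) (x : A) :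
    (eqToIso h).inv.toNatTrans.app x =
      eqToHom (congrArg (fun T : A ⟶ B => T.toFunctor.obj x) h).symm := by
  subst h; rfl

theorem fm_id (X : (splitCat 𝒳).obj) :
    fm (𝟙 X) = eqToHom ((congrArg (restrObj · (fib X)) (bm_id X)).trans (restrObj_id (fib X))).symm :=
  eqToIso_inv_app _ _

theorem fm_comp {X Y Z : (splitCat 𝒳).obj} (φ : X ⟶ Y) (ψ : Y ⟶ Z) :
    fm (φ ≫ ψ) = fm φ ≫ (restr (bm φ)).map (fm ψ) ≫ eqToHom (restrObj_comp (bm ψ) (bm φ) (fib Z)).symm := by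
  have h := eqToIso_inv_app (A := (splitF 𝒳).obj (op (Pseudofunctor.CoGrothendieck.base Z)))
    (B := (splitF 𝒳).obj (op (Pseudofunctor.CoGrothendieck.base X)))
    ((splitF 𝒳).map_comp (bm ψ).op (bm φ).op) (fib Z)
  exact congrArg (fun t => fm φ ≫ (restr (bm φ)).map (fm ψ) ≫ t) h

/-- The morphism in `𝒳` underlying a morphism of the split category. -/
noncomputable def kHom {X Y : (splitCat 𝒳).obj} (φ : X ⟶ Y) :
    (fib X).fn.obj (ov (𝟙 _)) ⟶ (fib Y).fn.obj (ov (𝟙 _)) :=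
  (fm φ).1 ≫ (fib Y).fn.map (toTop ((mapF (bm φ)).obj (ov (𝟙 _))))

theorem kHom_map {X Y : (splitCat 𝒳).obj} (φ : X ⟶ Y) :
    𝒳.p.map (kHom φ) = eqToHom ((fib X).fn.w_obj _) ≫ bm φ ≫ eqToHom ((fib Y).fn.w_obj _).symm := by
  rw [kHom, Functor.map_comp, map_val, toTop_map, ov_map]
  simp

theorem kHom_id (X : (splitCat 𝒳).obj) : kHom (𝟙 X) = 𝟙 _ := by
  have e : (mapF (bm (𝟙 X))).obj (ov (𝟙 _)) = ov (𝟙 _) := by
    rw [bm_id]; exact Functor.congr_obj (Over.mapId_eq _) _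
  rw [kHom, fm_id, val_eqToHom, ← eqToHom_toTop (fib X) e, eqToHom_trans_assoc, map_toTop_top]
  exact Category.comp_id _

theorem kHom_comp {X Y Z : (splitCat 𝒳).obj} (φ : X ⟶ Y) (ψ : Y ⟶ Z) :
    kHom (φ ≫ ψ) = kHom φ ≫ kHom ψ := by
  have e : (mapF (bm ψ)).obj ((mapF (bm φ)).obj (ov (𝟙 _))) = (mapF (bm φ ≫ bm ψ)).obj (ov (𝟙 _)) :=
    (Functor.congr_obj (Over.mapComp_eq (bm φ) (bm ψ)) _).symm
  have h1 := compo_fac (fm ψ) ((mapF (bm φ)).obj (ov (𝟙 _)))
  have h2 : (restrObj (bm ψ) (fib Z)).fn.map (toTop ((mapF (bm φ)).obj (ov (𝟙 _)))) ≫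
      (fib Z).fn.map (toTop ((mapF (bm ψ)).obj (ov (𝟙 _)))) =
      (fib Z).fn.map (toTop ((mapF (bm ψ)).obj ((mapF (bm φ)).obj (ov (𝟙 _))))) :=
    map_toTop_comp (fib Z) ((mapF (bm ψ)).map (toTop _))
  rw [kHom, kHom, kHom, fm_comp, val_comp, val_comp, val_eqToHom, restr_map_val]
  simp only [Category.assoc]
  congr 1
  rw [← reassoc_of% h1]
  congr 1
  rw [← eqToHom_toTop (fib Z) e] at h2
  exact h2.symm

variable (𝒳) in
/-- The comparison functor from the split category. -/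
noncomputable def K : splitCat 𝒳 ⥤ᵇ 𝒳 where
  toFunctor :=
    { obj := fun X => (fib X).fn.obj (ov (𝟙 _))
      map := kHom
      map_id := kHom_id
      map_comp := kHom_comp }
  w := CategoryTheory.Functor.ext (fun X => (fib X).fn.w_obj _) fun _ _ φ => kHom_map φ

theorem fm_ext {X Y : (splitCat 𝒳).obj} {φ ψ : X ⟶ Y} (h1 : bm φ = bm ψ)
    (h2 : fm φ = fm ψ ≫ eqToHom (congrArg (restrObj · (fib Y)) h1).symm) : φ = ψ :=
  Pseudofunctor.CoGrothendieck.Hom.ext φ ψ h1 h2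

instance faithful_K : (K 𝒳).toFunctor.Faithful := ⟨fun {X Y φ ψ} h => by
  have hk : kHom φ = kHom ψ := h
  have hb : bm φ = bm ψ := by
    have h' := congrArg 𝒳.p.map hk
    rw [kHom_map, kHom_map] at h'
    rwa [cancel_epi, cancel_mono] at h'
  refine fm_ext hb (hom_ext' (cart_ext (cart_toTop (fib Y).cart _) ?_ ?_))
  · rw [map_val, map_val]
  · rw [val_comp, val_eqToHom, Category.assoc, eqToHom_toTop (fib Y) (by rw [hb])]
    exact hk⟩

instance full_K : (K 𝒳).toFunctor.Full := ⟨fun {X Y} k => by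
  let f : Pseudofunctor.CoGrothendieck.base X ⟶ Pseudofunctor.CoGrothendieck.base Y :=
    eqToHom ((fib X).fn.w_obj (ov (𝟙 _))).symm ≫ 𝒳.p.map k ≫ eqToHom ((fib Y).fn.w_obj (ov (𝟙 _)))
  obtain ⟨χ, ⟨h1, h2⟩, -⟩ := cart_fac (cart_toTop (fib Y).cart ((mapF f).obj (ov (𝟙 _)))) k
    (eqToHom (((fib X).fn.w_obj (ov (𝟙 _))).trans ((fib Y).fn.w_obj ((mapF f).obj (ov (𝟙 _)))).symm))
    (by rw [toTop_map, ov_map]; simp [f])
  exact ⟨⟨f, (vertHom ((fib X).fn.w_obj (ov (𝟙 _))) ((fib Y).fn.w_obj ((mapF f).obj (ov (𝟙 _)))) χ h1 :)⟩, h2⟩⟩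

theorem isEquivOver_K : FibCat.IsEquivOver (K 𝒳) := by
  refine isEquivOver_of_vert _ fun z => ?_
  have := isEquivalence_evalAtId_cart (𝒳 := 𝒳) (𝒳.p.obj z)
  let P : ObjectProperty (FibCat.overCat (𝒳.p.obj z) ⥤ᵇ 𝒳) := FibCat.PreservesStronglyCartesian
  let T := P.ι ⋙ FibCat.evalAtId 𝒳 (𝒳.p.obj z)
  let G := T.objPreimage (Functor.Fiber.mk (p := 𝒳.p) (rfl : 𝒳.p.obj z = _))
  let e := T.objObjPreimageIso (Functor.Fiber.mk (p := 𝒳.p) (rfl : 𝒳.p.obj z = _))
  refine ⟨⟨𝒳.p.obj z, (⟨G.obj, G.property⟩ : SObj 𝒳 (𝒳.p.obj z))⟩, rfl,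
    Functor.Fiber.fiberInclusion.mapIso e, ?_⟩
  exact fiber_map e.hom

variable (𝒳) in
theorem exists_split : ∃ E : 𝒳 ⥤ᵇ splitCat 𝒳, FibCat.IsEquivOver E := by
  obtain ⟨G, hG, -, -⟩ := isEquivOver_symm (isEquivOver_K (𝒳 := 𝒳))
  exact ⟨G, hG⟩

end Groth.Agent.RepOne.Split
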