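import Groth.Agent.RepOne.Cart
import Groth.Prelude.Def_W4stkalgstUpp
import Mathlib.CategoryTheory.Localization.CalculusOfFractions
/-!
The localisation `u_p 𝒮` of `u_pp 𝒮` is fibred over the target of `u`.
-/

set_option backward.isDefEq.respectTransparency false
set_option backward.isDefEq.respectTransparency.types false

universe v₃ u₃ v₂ u₂ v u

open CategoryTheory

namespace Groth.Agent.RepOne

open Stk

variable {C : Type u} [Category.{v} C] {D : Type u₂} [Category.{v₂} D] (u : C ⥤ D)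
  (𝒮 : BasedCategory.{v₃, u₃} C)

/-- The localisation functor into `u_p 𝒮`. -/
abbrev locQ : UppObj u 𝒮 ⥤ (up u 𝒮).obj := (uppR u 𝒮).Q

instance : (locQ u 𝒮).IsLocalization (uppR u 𝒮) := inferInstanceAs ((uppR u 𝒮).Q.IsLocalization (uppR u 𝒮))

theorem up_map_Q {a b : UppObj u 𝒮} (m : a ⟶ b) : (up u 𝒮).p.map ((locQ u 𝒮).map m) = m.bot := by
  refine (Functor.congr_hom (Localization.Construction.fac (UppObj.forget u 𝒮) (uppR_isInvertedBy u 𝒮)) m).trans ?_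
  exact (Category.id_comp _).trans (Category.comp_id _)

theorem up_map_frac {a b : UppObj u 𝒮} (z : (uppR u 𝒮).RightFraction a b) :
    (up u 𝒮).p.map (z.map (locQ u 𝒮) (Localization.inverts _ _)) = @inv _ _ _ _ z.s.bot z.hs.2 ≫ z.f.bot := by
  have := z.hs.2
  have := Localization.inverts (locQ u 𝒮) (uppR u 𝒮) z.s z.hs
  rw [MorphismProperty.RightFraction.map]
  change (up u 𝒮).p.map (inv ((locQ u 𝒮).map z.s) ≫ (locQ u 𝒮).map z.f) = _
  rw [Functor.map_comp, Functor.map_inv, IsIso.inv_comp_eq, up_map_Q, up_map_Q, IsIso.hom_inv_id_assoc]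

theorem exists_eq_Q (A : (up u 𝒮).obj) : ∃ a : UppObj u 𝒮, A = (locQ u 𝒮).obj a :=
  ⟨(Localization.Construction.objEquiv (uppR u 𝒮)).symm A,
    ((Localization.Construction.objEquiv (uppR u 𝒮)).apply_symm_apply A).symm⟩

/-- The candidate pullback of `a` along `g`. -/
abbrev base (a : UppObj u 𝒮) {V : D} (g : V ⟶ a.V) : UppObj u 𝒮 := ⟨a.x, V, g ≫ a.φ⟩

/-- The morphism from the candidate pullback. -/
abbrev baseHom (a : UppObj u 𝒮) {V : D} (g : V ⟶ a.V) : base u 𝒮 a g ⟶ a :=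
  ⟨𝟙 a.x, g, by simp⟩

variable [(uppR u 𝒮).HasRightCalculusOfFractions]

theorem cart_baseHom (a : UppObj u 𝒮) {V : D} (g : V ⟶ a.V) :
    (up u 𝒮).p.IsStronglyCartesian ((up u 𝒮).p.map ((locQ u 𝒮).map (baseHom u 𝒮 a g))) ((locQ u 𝒮).map (baseHom u 𝒮 a g)) := by
  refine cart_mk (𝒳 := up u 𝒮) fun {Z} ψ g' e => ?_
  obtain ⟨c, rfl⟩ := exists_eq_Q u 𝒮 Z
  rw [up_map_Q] at e
  change c.V ⟶ V at g'
  change g' ≫ g = _ at e
  change (locQ u 𝒮).obj c ⟶ (locQ u 𝒮).obj a at ψ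
  obtain ⟨z, rfl⟩ := Localization.exists_rightFraction (locQ u 𝒮) (uppR u 𝒮) ψ
  have hib := z.hs.2
  rw [up_map_frac] at e
  have e' : z.s.bot ≫ g' ≫ g = z.f.bot := by rw [e, IsIso.hom_inv_id_assoc]
  let f' : z.X' ⟶ base u 𝒮 a g := ⟨z.f.top, z.s.bot ≫ g', by rw [z.f.w, ← e']; simp [base]⟩
  let χ := MorphismProperty.RightFraction.mk z.s z.hs f'
  have hχp : (up u 𝒮).p.map (χ.map (locQ u 𝒮) (Localization.inverts _ _)) = g' := by
    rw [up_map_frac]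
    simp [χ, f']
  have hχc : χ.map (locQ u 𝒮) (Localization.inverts _ _) ≫ (locQ u 𝒮).map (baseHom u 𝒮 a g) = z.map (locQ u 𝒮) (Localization.inverts _ _) := by
    have hf : f' ≫ baseHom u 𝒮 a g = z.f := UppObj.hom_ext (Category.comp_id _) ((Category.assoc _ _ _).trans e')
    simp only [MorphismProperty.RightFraction.map, χ, Category.assoc]
    rw [← Functor.map_comp, hf]
  refine ⟨χ.map (locQ u 𝒮) (Localization.inverts _ _), ⟨hχp, hχc⟩, fun χ' ⟨h1, h2⟩ => ?_⟩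
  obtain ⟨z', rfl⟩ := Localization.exists_rightFraction (locQ u 𝒮) (uppR u 𝒮) χ'
  rw [MorphismProperty.RightFraction.map_eq_iff]
  have h3 : z'.map (locQ u 𝒮) (Localization.inverts _ _) ≫ (locQ u 𝒮).map (baseHom u 𝒮 a g) =
      χ.map (locQ u 𝒮) (Localization.inverts _ _) ≫ (locQ u 𝒮).map (baseHom u 𝒮 a g) := h2.trans hχc.symm
  let y' := MorphismProperty.RightFraction.mk z'.s z'.hs (z'.f ≫ baseHom u 𝒮 a g)
  let y := MorphismProperty.RightFraction.mk χ.s χ.hs (χ.f ≫ baseHom u 𝒮 a g)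
  have h4 : y'.map (locQ u 𝒮) (Localization.inverts _ _) = y.map (locQ u 𝒮) (Localization.inverts _ _) := by
    simp only [MorphismProperty.RightFraction.map, y, y', Functor.map_comp]
    simp only [MorphismProperty.RightFraction.map, Category.assoc] at h3
    exact h3
  obtain ⟨Z', t₁, t₂, hs, hf, ht⟩ := (MorphismProperty.RightFraction.map_eq_iff (locQ u 𝒮) _ _ _).1 h4
  have htop : (t₁ ≫ z'.f).top = (t₂ ≫ χ.f).top := by
    have := congrArg UppObj.Hom.top hf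
    simpa [y, y'] using this
  have hb : (t₁ ≫ z'.f).bot = (t₂ ≫ χ.f).bot := by
    have hp := h1.trans hχp.symm
    rw [up_map_frac, up_map_frac] at hp
    have hsb : t₁.bot ≫ z'.s.bot = t₂.bot ≫ χ.s.bot := congrArg UppObj.Hom.bot hs
    have := z'.hs.2
    have := χ.hs.2
    have k1 : z'.f.bot = z'.s.bot ≫ inv z'.s.bot ≫ z'.f.bot := (IsIso.hom_inv_id_assoc _ _).symm
    simp only [UppObj.comp_bot]
    rw [k1, hp, ← Category.assoc, hsb, Category.assoc, IsIso.hom_inv_id_assoc]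
  exact ⟨Z', t₁, t₂, hs, UppObj.hom_ext htop hb, ht⟩

theorem isFibered_up : (up u 𝒮).p.IsFibered := by
  refine isFibered_mk (𝒳 := up u 𝒮) fun B V f => ?_
  obtain ⟨a, rfl⟩ := exists_eq_Q u 𝒮 B
  change V ⟶ a.V at f
  exact ⟨(locQ u 𝒮).obj (base u 𝒮 a f), (locQ u 𝒮).map (baseHom u 𝒮 a f), rfl, cart_baseHom u 𝒮 a f,
    (up_map_Q u 𝒮 (baseHom u 𝒮 a f)).trans (Category.id_comp f).symm⟩

theorem isFibGrpd_up (h : FibCat.IsFibGrpd 𝒮.p) : FibCat.IsFibGrpd (up u 𝒮).p := by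
  have hiso : ∀ {A B : (up u 𝒮).obj} (φ : A ⟶ B), IsIso φ →
      (up u 𝒮).p.IsStronglyCartesian ((up u 𝒮).p.map φ) φ := fun φ hφ =>
    Functor.IsStronglyCartesian.of_isIso _ _ φ
  have hL : ∀ {a b : UppObj u 𝒮} (m : a ⟶ b),
      (up u 𝒮).p.IsStronglyCartesian ((up u 𝒮).p.map ((locQ u 𝒮).map m)) ((locQ u 𝒮).map m) := fun {a b} m => by
    let w : a ⟶ base u 𝒮 b m.bot := ⟨m.top, 𝟙 a.V, by simpa [base] using m.w⟩
    have hw : uppR u 𝒮 w := ⟨h.isStronglyCartesian m.top, by dsimp [w]; infer_instance⟩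
    have hm : w ≫ baseHom u 𝒮 b m.bot = m := UppObj.hom_ext (Category.comp_id _) (Category.id_comp _)
    have := cart_comp (𝒳 := up u 𝒮) (hiso ((locQ u 𝒮).map w) (Localization.inverts (locQ u 𝒮) _ w hw)) (cart_baseHom u 𝒮 b m.bot)
    rw [← Functor.map_comp, hm] at this
    exact this
  refine ⟨fun {B V} f => ?_, fun {A B} φ => ?_⟩
  · obtain ⟨a, rfl⟩ := exists_eq_Q u 𝒮 B
    change V ⟶ a.V at f
    exact ⟨_, (locQ u 𝒮).map (baseHom u 𝒮 a f), IsHomLift.of_fac' (up u 𝒮).p f _ rfl rfl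
      ((up_map_Q u 𝒮 (baseHom u 𝒮 a f)).trans (by simp))⟩
  · obtain ⟨a, rfl⟩ := exists_eq_Q u 𝒮 A
    obtain ⟨b, rfl⟩ := exists_eq_Q u 𝒮 B
    obtain ⟨z, rfl⟩ := Localization.exists_rightFraction (locQ u 𝒮) (uppR u 𝒮) φ
    have := Localization.inverts (locQ u 𝒮) (uppR u 𝒮) z.s z.hs
    exact cart_comp (𝒳 := up u 𝒮) (hiso (inv ((locQ u 𝒮).map z.s)) inferInstance) (hL z.f)

end Groth.Agent.RepOne
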